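import Mathlib

set_option autoImplicit false

namespace Cfsg.Agent.Lib.Helper28.Kul

/-- number of subgroups of order `n` -/
noncomputable def sub (G : Type*) [Group G] (n : ℕ) : ℕ :=
  Nat.card {H : Subgroup G // Nat.card H = n}

/-- number of cyclic subgroups of order `n` -/
noncomputable def cyc (G : Type*) [Group G] (n : ℕ) : ℕ :=
  Nat.card {H : Subgroup G // Nat.card H = n ∧ IsCyclic H}

/-- number of pairs `K ≤ H` of subgroups of orders `a`, `b` -/
noncomputable def prs (G : Type*) [Group G] (a b : ℕ) : ℕ :=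
  Nat.card {KH : Subgroup G × Subgroup G // Nat.card KH.1 = a ∧ Nat.card KH.2 = b ∧ KH.1 ≤ KH.2}

/-- the exceptional elements (only for `p = 2`, `b = 2`) -/
def bad {P : Type*} [Group P] (p b : ℕ) (E : Subgroup P) (x : P) : Prop :=
  p = 2 ∧ b = 2 ∧ x ∉ Subgroup.centralizer (E : Set P) ∧ x ^ 2 ∈ E

end Cfsg.Agent.Lib.Helper28.Kul
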