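import Mathlib
import Cfsg.Agent.Lib.Helper28.Kul.Defs

set_option autoImplicit false

namespace Cfsg.Agent.Lib.Helper28.Kul

/-- the number of generators of a cyclic subgroup of order `n` -/
theorem cycgen_fibre {G : Type*} [Group G] [Finite G] (n : ℕ) (H : Subgroup G)
    (hH : Nat.card H = n) (hc : IsCyclic H) :
    Nat.card {x : G // orderOf x = n ∧ Subgroup.zpowers x = H} = Nat.totient n := by
  classical
  have : Fintype ↥H := Fintype.ofFinite _
  have h1 := IsCyclic.card_orderOf_eq_totient (α := ↥H) (d := n)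
    (by rw [← Nat.card_eq_fintype_card, hH])
  rw [← h1, ← Nat.subtype_card (p := fun a : ↥H => orderOf a = n) _ (by simp)]
  refine Nat.card_congr ⟨fun x => ⟨⟨x.1, by
      have h2 := Subgroup.mem_zpowers x.1
      rw [x.2.2] at h2
      exact h2⟩, ?_⟩,
    fun y => ⟨y.1.1, ?_, ?_⟩, fun x => rfl, fun y => rfl⟩
  · rw [Subgroup.orderOf_mk]; exact x.2.1
  · rw [Subgroup.orderOf_coe]; exact y.2
  · refine Subgroup.eq_of_le_of_card_ge (Subgroup.zpowers_le.2 y.1.2) ?_
    rw [Nat.card_zpowers, Subgroup.orderOf_coe, y.2, hH]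

theorem cycgen {G : Type*} [Group G] [Finite G] (n : ℕ) :
    Nat.card {x : G // orderOf x = n} = cyc G n * Nat.totient n := by
  classical
  have : Fintype {H : Subgroup G // Nat.card H = n ∧ IsCyclic H} := Fintype.ofFinite _
  let f : {x : G // orderOf x = n} → {H : Subgroup G // Nat.card H = n ∧ IsCyclic H} :=
    fun x => ⟨Subgroup.zpowers x.1, by rw [Nat.card_zpowers]; exact x.2, inferInstance⟩
  rw [Nat.card_congr (Equiv.sigmaFiberEquiv f).symm, Nat.card_sigma]
  have hf : ∀ H : {H : Subgroup G // Nat.card H = n ∧ IsCyclic H},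
      Nat.card {x : {x : G // orderOf x = n} // f x = H} = Nat.totient n := by
    intro H
    rw [← cycgen_fibre n H.1 H.2.1 H.2.2]
    exact Nat.card_congr ⟨fun x => ⟨x.1.1, x.1.2, congrArg Subtype.val x.2⟩,
      fun x => ⟨⟨x.1, x.2.1⟩, Subtype.ext x.2.2⟩, fun x => rfl, fun x => rfl⟩
  rw [Finset.sum_congr rfl (fun H _ => hf H), Finset.sum_const, Finset.card_univ, smul_eq_mul,
    cyc, Nat.card_eq_fintype_card]

end Cfsg.Agent.Lib.Helper28.Kul
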