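import Mathlib
import Cfsg.Agent.Lib.Helper28.Kul.Defs
import Cfsg.Agent.Lib.Helper70.Wielandt

set_option autoImplicit false

namespace Cfsg.Agent.Lib.Helper28.Kul

/-- the kernel of a non-trivial homomorphism to `C_p` -/
theorem maxc_ker {H : Type*} [Group H] [Finite H] {p β : ℕ} (hp : p.Prime)
    (hH : Nat.card H = p ^ (β + 1)) (f : H →* Multiplicative (ZMod p)) (hf : f ≠ 1) :
    Nat.card f.ker = p ^ β := by
  have : Fact p.Prime := ⟨hp⟩
  have hC : Nat.card (Multiplicative (ZMod p)) = p := by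
    change Nat.card (ZMod p) = p
    rw [Nat.card_eq_fintype_card, ZMod.card]
  have h1 := f.ker.card_mul_index
  rw [Subgroup.index_ker, hH] at h1
  have h2 : Nat.card f.range ∣ p := by
    have := Subgroup.card_subgroup_dvd_card f.range
    rwa [hC] at this
  rcases (Nat.dvd_prime hp).mp h2 with h | h
  · exfalso
    apply hf
    have hb : f.range = ⊥ := Subgroup.card_eq_one.mp h
    ext x
    have : f x ∈ f.range := ⟨x, rfl⟩
    rw [hb, Subgroup.mem_bot] at this
    rw [this]; rfl
  · rw [h, pow_succ] at h1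
    exact Nat.eq_of_mul_eq_mul_right hp.pos h1

/-- the homomorphisms to `C_p` with a given kernel of index `p` -/
theorem maxc_fib {H : Type*} [Group H] [Finite H] {p β : ℕ} (hp : p.Prime)
    (hH : Nat.card H = p ^ (β + 1)) (M : Subgroup H) (hM : Nat.card M = p ^ β) :
    Nat.card {f : H →* Multiplicative (ZMod p) // f ≠ 1 ∧ f.ker = M} = p - 1 := by
  classical
  have : Fact p.Prime := ⟨hp⟩
  have hC : Nat.card (Multiplicative (ZMod p)) = p := by
    change Nat.card (ZMod p) = p
    rw [Nat.card_eq_fintype_card, ZMod.card]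
  have hidx : M.index = p := by
    have h1 := M.card_mul_index
    rw [hM, hH, pow_succ] at h1
    exact Nat.eq_of_mul_eq_mul_left (pow_pos hp.pos β) h1
  have hMn : M.Normal := by
    apply Subgroup.normal_of_index_eq_minFac_card
    rw [hidx, hH, Nat.Prime.pow_minFac hp (Nat.succ_ne_zero β)]
  have hMtop : M ≠ ⊤ := by
    intro h
    rw [h, Subgroup.index_top] at hidx
    exact hp.one_lt.ne hidx
  obtain ⟨x0, hx0⟩ : ∃ x0 : H, x0 ∉ M := by
    by_contra hcon
    push Not at hcon
    exact hMtop (eq_top_iff.mpr fun x _ => hcon x)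
  -- a subgroup containing `M` and `x0` is everything
  have hbig : ∀ K : Subgroup H, M ≤ K → x0 ∈ K → K = ⊤ := by
    intro K hMK hxK
    have h1 : p ^ β ∣ Nat.card K := hM ▸ Subgroup.card_dvd_of_le hMK
    have h2 : Nat.card K ∣ p ^ (β + 1) := hH ▸ Subgroup.card_subgroup_dvd_card K
    obtain ⟨j, hj, hj'⟩ := (Nat.dvd_prime_pow hp).mp h2
    rw [hj'] at h1
    have h3 : β ≤ j := (Nat.pow_dvd_pow_iff_le_right hp.one_lt).mp h1
    have h4 : j ≠ β := by
      intro h
      have : M = K := Subgroup.eq_of_le_of_card_ge hMK (by rw [hM, hj', h])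
      exact hx0 (this ▸ hxK)
    have h5 : j = β + 1 := by omega
    exact Subgroup.eq_top_of_card_eq K (by rw [hj', h5, hH])
  -- one homomorphism with kernel `M`
  have hQ : Nat.card (H ⧸ M) = p := hidx
  let e : (H ⧸ M) ≃* Multiplicative (ZMod p) := mulEquivOfPrimeCardEq hQ hC
  let f0 : H →* Multiplicative (ZMod p) := e.toMonoidHom.comp (QuotientGroup.mk' M)
  have hf0ker : f0.ker = M := by
    ext x
    simp only [f0, MonoidHom.mem_ker, MonoidHom.comp_apply, QuotientGroup.mk'_apply]
    constructor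
    · intro h
      have : (x : H ⧸ M) = 1 := e.injective (by simpa using h)
      exact (QuotientGroup.eq_one_iff x).mp this
    · intro h
      have : (x : H ⧸ M) = 1 := (QuotientGroup.eq_one_iff x).mpr h
      rw [this]; simp
  have hc0 : f0 x0 ≠ 1 := by
    intro h
    exact hx0 (hf0ker ▸ (MonoidHom.mem_ker.mpr h))
  have key : {f : H →* Multiplicative (ZMod p) // f ≠ 1 ∧ f.ker = M} ≃
      {c : Multiplicative (ZMod p) // c ≠ 1} := by
    refine Equiv.ofBijective (fun f => ⟨f.1 x0, fun h => hx0 (f.2.2 ▸ MonoidHom.mem_ker.mpr h)⟩)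
      ⟨?_, ?_⟩
    · rintro ⟨f, hf1, hfk⟩ ⟨g, hg1, hgk⟩ hfg
      have hfg' : f x0 = g x0 := congrArg Subtype.val hfg
      apply Subtype.ext
      have hk : (f * g⁻¹).ker = ⊤ := by
        apply hbig
        · intro y hy
          have h1 : f y = 1 := MonoidHom.mem_ker.mp (hfk ▸ hy)
          have h2 : g y = 1 := MonoidHom.mem_ker.mp (hgk ▸ hy)
          rw [MonoidHom.mem_ker, MonoidHom.mul_apply, MonoidHom.inv_apply, h1, h2]; simp
        · rw [MonoidHom.mem_ker, MonoidHom.mul_apply, MonoidHom.inv_apply, hfg']; simp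
      ext x
      have hx : x ∈ (f * g⁻¹).ker := hk ▸ Subgroup.mem_top x
      rw [MonoidHom.mem_ker, MonoidHom.mul_apply, MonoidHom.inv_apply, mul_inv_eq_one] at hx
      rw [hx]
    · rintro ⟨c, hc⟩
      have hz : Subgroup.zpowers (f0 x0) = ⊤ := by
        apply zpowers_eq_top_of_prime_card hC hc0
      have hcm : c ∈ Subgroup.zpowers (f0 x0) := hz ▸ Subgroup.mem_top c
      obtain ⟨i, hi⟩ := Subgroup.mem_zpowers_iff.mp hcm
      have hval : (f0 ^ i) x0 = c := by
        rw [← hi]; rfl
      have hne : f0 ^ i ≠ 1 := by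
        intro h
        rw [h] at hval
        exact hc hval.symm
      refine ⟨⟨f0 ^ i, hne, ?_⟩, Subtype.ext hval⟩
      symm
      apply Subgroup.eq_of_le_of_card_ge
      · intro y hy
        have h1 : f0 y = 1 := MonoidHom.mem_ker.mp (hf0ker ▸ hy)
        rw [MonoidHom.mem_ker]
        change (f0 y) ^ i = 1
        rw [h1, one_zpow]
      · rw [maxc_ker hp hH _ hne, hM]
  rw [Nat.card_congr key]
  have h1 : Nat.card {c : Multiplicative (ZMod p) // c ≠ 1} + 1 = p := by
    have := Nat.card_congr (Equiv.sumCompl (fun c : Multiplicative (ZMod p) => c = 1))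
    rw [Nat.card_sum, hC] at this
    have h2 : Nat.card {c : Multiplicative (ZMod p) // c = 1} = 1 := by
      rw [Nat.card_eq_one_iff_unique]
      exact ⟨⟨fun a b => Subtype.ext (a.2.trans b.2.symm)⟩, ⟨⟨1, rfl⟩⟩⟩
    rw [h2] at this
    have h3 : Nat.card {c : Multiplicative (ZMod p) // c ≠ 1} =
        Nat.card {c : Multiplicative (ZMod p) // ¬ c = 1} := rfl
    omega
  omega

/-- the counting identity `μ (p - 1) + 1 = p ^ e` -/
theorem maxc_count {H : Type*} [Group H] [Finite H] {p β : ℕ} (hp : p.Prime)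
    (hH : Nat.card H = p ^ (β + 1)) : ∃ e : ℕ, sub H (p ^ β) * (p - 1) + 1 = p ^ e := by
  classical
  have : Fact p.Prime := ⟨hp⟩
  have hC : Nat.card (Multiplicative (ZMod p)) = p := by
    change Nat.card (ZMod p) = p
    rw [Nat.card_eq_fintype_card, ZMod.card]
  have hfinC : Finite (Multiplicative (ZMod p)) := Nat.finite_of_card_ne_zero (by rw [hC]; exact hp.ne_zero)
  have hfin : Finite (H →* Multiplicative (ZMod p)) :=
    Finite.of_injective (fun f : H →* Multiplicative (ZMod p) => (f : H → Multiplicative (ZMod p)))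
      DFunLike.coe_injective
  have hPG : IsPGroup p (H →* Multiplicative (ZMod p)) := by
    intro f
    refine ⟨1, ?_⟩
    ext x
    rw [pow_one]
    change (f x) ^ p = 1
    have := pow_card_eq_one' (x := f x)
    rwa [hC] at this
  obtain ⟨e, he⟩ := IsPGroup.iff_card.mp hPG
  refine ⟨e, ?_⟩
  rw [← he]
  have h1 := Nat.card_congr (Equiv.sumCompl (fun f : H →* Multiplicative (ZMod p) => f = 1))
  rw [Nat.card_sum] at h1
  have h2 : Nat.card {f : H →* Multiplicative (ZMod p) // f = 1} = 1 := by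
    rw [Nat.card_eq_one_iff_unique]
    exact ⟨⟨fun a b => Subtype.ext (a.2.trans b.2.symm)⟩, ⟨⟨1, rfl⟩⟩⟩
  have e3 : {f : H →* Multiplicative (ZMod p) // ¬ f = 1} ≃
      Σ M : {M : Subgroup H // Nat.card M = p ^ β},
        {f : H →* Multiplicative (ZMod p) // f ≠ 1 ∧ f.ker = M.1} :=
    { toFun := fun f => ⟨⟨f.1.ker, maxc_ker hp hH f.1 f.2⟩, ⟨f.1, f.2, rfl⟩⟩
      invFun := fun y => ⟨y.2.1, y.2.2.1⟩
      left_inv := fun f => rfl
      right_inv := by
        rintro ⟨⟨M, hM⟩, ⟨f, hf1, hf2⟩⟩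
        simp only at hf2
        subst hf2
        rfl }
  have : Fintype {M : Subgroup H // Nat.card M = p ^ β} := Fintype.ofFinite _
  rw [h2, Nat.card_congr e3, Nat.card_sigma,
    Finset.sum_congr rfl (fun M _ => maxc_fib hp hH M.1 M.2), Finset.sum_const, Finset.card_univ,
    smul_eq_mul, ← Nat.card_eq_fintype_card] at h1
  rw [← h1, sub]; ring

/-- MAXC -/
theorem maxc {H : Type*} [Group H] [Finite H] {p β : ℕ} (hp : p.Prime)
    (hH : Nat.card H = p ^ (β + 1)) :
    (IsCyclic H → sub H (p ^ β) = 1) ∧ (¬ IsCyclic H → sub H (p ^ β) ≡ 1 + p [MOD p ^ 2]) := by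
  have : Fact p.Prime := ⟨hp⟩
  obtain ⟨K0, hK0⟩ := Sylow.exists_subgroup_card_pow_prime (G := H) p (n := β)
    (by rw [hH]; exact pow_dvd_pow p (Nat.le_succ β))
  constructor
  · intro hc
    unfold sub
    rw [Nat.card_eq_one_iff_unique]
    exact ⟨⟨fun A B => Subtype.ext (Cfsg.Agent.Lib.Helper70.eq_of_card_eq_of_isCyclic A.1 B.1
      (A.2.trans B.2.symm))⟩, ⟨⟨K0, hK0⟩⟩⟩
  · intro hnc
    obtain ⟨e, he⟩ := maxc_count hp hH
    have hp2 := hp.two_le
    have hpos : 0 < sub H (p ^ β) := by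
      unfold sub
      have : Nonempty {M : Subgroup H // Nat.card M = p ^ β} := ⟨⟨K0, hK0⟩⟩
      exact Nat.card_pos
    have he2 : 2 ≤ e := by
      by_contra hlt
      have hle : e ≤ 1 := by omega
      have hμ : sub H (p ^ β) = 1 := by
        have h1 : p ^ e ≤ p ^ 1 := Nat.pow_le_pow_right hp.pos hle
        rw [pow_one, ← he] at h1
        have h2 : sub H (p ^ β) * (p - 1) ≤ 1 * (p - 1) := by omega
        have h3 := Nat.le_of_mul_le_mul_right h2 (by omega)
        omega
      apply hnc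
      unfold sub at hμ
      rw [Nat.card_eq_one_iff_unique] at hμ
      obtain ⟨hsub, _⟩ := hμ
      have hK0top : K0 ≠ ⊤ := by
        intro h
        rw [h, Subgroup.card_top, hH] at hK0
        have := Nat.pow_right_injective hp.two_le hK0
        omega
      obtain ⟨x, hx⟩ : ∃ x : H, x ∉ K0 := by
        by_contra hcon
        push Not at hcon
        exact hK0top (eq_top_iff.mpr fun x _ => hcon x)
      refine ⟨x, fun y => ?_⟩
      have htop : Subgroup.zpowers x = ⊤ := by
        by_contra hne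
        have h2 : Nat.card (Subgroup.zpowers x) ∣ p ^ (β + 1) :=
          hH ▸ Subgroup.card_subgroup_dvd_card _
        obtain ⟨j, hj, hj'⟩ := (Nat.dvd_prime_pow hp).mp h2
        have hjb : j ≤ β := by
          by_contra hh
          have : j = β + 1 := by omega
          exact hne (Subgroup.eq_top_of_card_eq _ (by rw [hj', this, hH]))
        obtain ⟨K, hK, hle⟩ := Sylow.exists_subgroup_card_pow_prime_le p
          (by rw [hH]; exact pow_dvd_pow p (Nat.le_succ β)) (Subgroup.zpowers x) hj' hjb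
        have : (⟨K, hK⟩ : {M : Subgroup H // Nat.card M = p ^ β}) = ⟨K0, hK0⟩ :=
          hsub.elim _ _
        have hKK : K = K0 := congrArg Subtype.val this
        exact hx (hKK ▸ hle (Subgroup.mem_zpowers x))
      have hy : y ∈ Subgroup.zpowers x := htop ▸ Subgroup.mem_top y
      exact hy
    have hcop : Nat.gcd (p ^ 2) (p - 1) = 1 := by
      apply Nat.Coprime.pow_left
      rw [Nat.Prime.coprime_iff_not_dvd hp]
      intro hd
      have := Nat.le_of_dvd (by omega) hd
      omega
    apply Nat.ModEq.cancel_right_of_coprime hcop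
    apply Nat.ModEq.add_right_cancel' 1
    rw [he]
    have h1 : (1 + p) * (p - 1) + 1 = p ^ 2 := by
      obtain ⟨q, rfl⟩ : ∃ q, p = q + 1 := ⟨p - 1, by omega⟩
      simp only [Nat.add_sub_cancel]
      ring
    rw [h1]
    have h2 : p ^ e ≡ 0 [MOD p ^ 2] := Nat.modEq_zero_iff_dvd.mpr (pow_dvd_pow p he2)
    have h3 : p ^ 2 ≡ 0 [MOD p ^ 2] := Nat.modEq_zero_iff_dvd.mpr dvd_rfl
    exact h2.trans h3.symm

end Cfsg.Agent.Lib.Helper28.Kul
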