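import Mathlib
import Cfsg.Agent.Lib.Helper28.Kul.Defs
import Cfsg.Agent.Lib.Helper28.Kul.MAXC

set_option autoImplicit false

namespace Cfsg.Agent.Lib.Helper28.Kul

/-- subgroups of `G` of order `a` inside `H` are the subgroups of `H` of order `a` -/
theorem tsum_below {G : Type*} [Group G] (H : Subgroup G) (a : ℕ) :
    Nat.card {K : Subgroup G // Nat.card K = a ∧ K ≤ H} = sub H a := by
  unfold sub
  refine Nat.card_congr ⟨fun K => ⟨K.1.subgroupOf H, ?_⟩, fun K => ⟨K.1.map H.subtype, ?_, ?_⟩,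
    ?_, ?_⟩
  · rw [Nat.card_congr (Subgroup.subgroupOfEquivOfLe K.2.2).toEquiv]; exact K.2.1
  · rw [Subgroup.card_map_of_injective H.subtype_injective]; exact K.2
  · exact Subgroup.map_subtype_le _
  · intro K
    apply Subtype.ext
    simp only [Subgroup.subgroupOf_map_subtype]
    exact inf_eq_left.mpr K.2.2
  · intro K
    apply Subtype.ext
    simp only
    rw [← Subgroup.comap_subtype]
    exact Subgroup.comap_map_eq_self_of_injective H.subtype_injective _

/-- the pairs, counted by the upper subgroup -/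
theorem tsum_prs {G : Type*} [Group G] [Finite G] (a b : ℕ)
    [Fintype {H : Subgroup G // Nat.card H = b}] :
    prs G a b = ∑ H : {H : Subgroup G // Nat.card H = b}, sub H.1 a := by
  unfold prs
  have e : {KH : Subgroup G × Subgroup G // Nat.card KH.1 = a ∧ Nat.card KH.2 = b ∧ KH.1 ≤ KH.2} ≃
      Σ H : {H : Subgroup G // Nat.card H = b}, {K : Subgroup G // Nat.card K = a ∧ K ≤ H.1} :=
    ⟨fun x => ⟨⟨x.1.2, x.2.2.1⟩, ⟨x.1.1, x.2.1, x.2.2.2⟩⟩,
     fun y => ⟨(y.2.1, y.1.1), y.2.2.1, y.1.2, y.2.2.2⟩,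
     fun x => rfl, fun y => rfl⟩
  rw [Nat.card_congr e, Nat.card_sigma]
  exact Finset.sum_congr rfl fun H _ => tsum_below H.1 a

/-- TSUM -/
theorem tsum {G : Type*} [Group G] [Finite G] {p : ℕ} (β : ℕ) (hp : p.Prime) :
    prs G (p ^ β) (p ^ (β + 1)) + p * cyc G (p ^ (β + 1)) ≡
      (1 + p) * sub G (p ^ (β + 1)) [MOD p ^ 2] := by
  classical
  have : Fintype {H : Subgroup G // Nat.card H = p ^ (β + 1)} := Fintype.ofFinite _
  have h1 := tsum_prs (G := G) (p ^ β) (p ^ (β + 1))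
  have h2 : cyc G (p ^ (β + 1)) =
      ∑ H : {H : Subgroup G // Nat.card H = p ^ (β + 1)}, if IsCyclic H.1 then 1 else 0 := by
    unfold cyc
    rw [← Nat.card_congr (Equiv.subtypeSubtypeEquivSubtypeInter
      (fun H : Subgroup G => Nat.card H = p ^ (β + 1)) (fun H : Subgroup G => IsCyclic H)),
      Nat.card_eq_fintype_card, Fintype.card_subtype, Finset.card_filter]
  have h3 : sub G (p ^ (β + 1)) = ∑ _H : {H : Subgroup G // Nat.card H = p ^ (β + 1)}, 1 := by
    unfold sub
    rw [Nat.card_eq_fintype_card]; simp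
  rw [h1, h2, h3, Finset.mul_sum, Finset.mul_sum, ← Finset.sum_add_distrib]
  apply Nat.ModEq.sum
  intro H _
  obtain ⟨hc, hn⟩ := maxc (H := H.1) (β := β) hp H.2
  by_cases h : IsCyclic H.1
  · rw [if_pos h, hc h, mul_one, mul_one]
  · rw [if_neg h, mul_zero, add_zero, mul_one]
    exact hn h

end Cfsg.Agent.Lib.Helper28.Kul
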