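import Mathlib
import Cfsg.Agent.Lib.Helper28.Kul.Defs

set_option autoImplicit false
open scoped Pointwise
open MulAction

namespace Cfsg.Agent.Lib.Helper28.Kul

theorem inv_fibre {G : Type*} [Group G] [Finite G] (K : Subgroup G)
    (q : Quotient (QuotientGroup.rightRel K)) :
    Nat.card {a : G // (Quotient.mk'' a : Quotient (QuotientGroup.rightRel K)) = q}
      = Nat.card K := by
  induction q using Quotient.inductionOn' with
  | h g =>
    refine Nat.card_congr ⟨fun a => ⟨a.1 * g⁻¹, ?_⟩, fun k => ⟨k.1 * g, ?_⟩, ?_, ?_⟩
    · have h := a.2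
      rw [Quotient.eq'', QuotientGroup.rightRel_apply] at h
      have := K.inv_mem h
      simpa using this
    · rw [Quotient.eq'', QuotientGroup.rightRel_apply]
      have := K.inv_mem k.2
      simpa using this
    · intro a
      simp
    · intro k
      simp

theorem inv_preimage {G : Type*} [Group G] [Finite G] (K : Subgroup G)
    (t : Set (Quotient (QuotientGroup.rightRel K))) :
    ((fun a : G => (Quotient.mk'' a : Quotient (QuotientGroup.rightRel K))) ⁻¹' t).ncard
      = t.ncard * Nat.card K := by
  classical
  rw [← Nat.card_coe_set_eq, ← Nat.card_coe_set_eq]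
  have e : ((fun a : G => (Quotient.mk'' a : Quotient (QuotientGroup.rightRel K))) ⁻¹' t) ≃
      Σ q : t, {a : G // (Quotient.mk'' a : Quotient (QuotientGroup.rightRel K)) = q.1} :=
    ⟨fun a => ⟨⟨Quotient.mk'' a.1, a.2⟩, ⟨a.1, rfl⟩⟩,
     fun x => ⟨x.2.1, by
      show (Quotient.mk'' x.2.1 : Quotient (QuotientGroup.rightRel K)) ∈ t
      rw [x.2.2]; exact x.1.2⟩,
     fun a => rfl,
     fun x => by
      obtain ⟨⟨q, hq⟩, ⟨a, ha⟩⟩ := x
      dsimp only at ha
      subst ha
      rfl⟩
  haveI : Finite (Quotient (QuotientGroup.rightRel K)) := Quotient.finite _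
  haveI : Fintype t := Fintype.ofFinite _
  rw [Nat.card_congr e, Nat.card_sigma]
  simp [inv_fibre]

/-- INV -/
theorem inv {G : Type*} [Group G] [Finite G] (K : Subgroup G) (j : ℕ) :
    Nat.card {s : Set G // s.ncard = j * Nat.card K ∧ K ≤ stabilizer G s} = (K.index).choose j := by
  classical
  have hKpos : 0 < Nat.card K := Nat.card_pos
  set Q := Quotient (QuotientGroup.rightRel K) with hQ
  have hfin : Finite Q := Quotient.finite _
  have hQc : Nat.card Q = K.index := by
    rw [Subgroup.index]
    exact Nat.card_congr (QuotientGroup.quotientRightRelEquivQuotientLeftRel K)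
  let mk : G → Q := fun a => Quotient.mk'' a
  have hmk : Function.Surjective mk := Quotient.mk''_surjective
  have e : {s : Set G // s.ncard = j * Nat.card K ∧ K ≤ stabilizer G s} ≃
      {t : Set Q // t.ncard = j} :=
    { toFun := fun s => ⟨mk '' s.1, by
        have hs : mk ⁻¹' (mk '' s.1) = s.1 := by
          ext a
          constructor
          · rintro ⟨b, hb, hba⟩
            have h : (Quotient.mk'' b : Q) = Quotient.mk'' a := hba
            rw [Quotient.eq'', QuotientGroup.rightRel_apply] at h
            have h2 := s.2.2 h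
            rw [mem_stabilizer_iff] at h2
            rw [← h2]
            refine ⟨b, hb, ?_⟩
            simp
          · intro ha
            exact ⟨a, ha, rfl⟩
        have h1 := inv_preimage K (mk '' s.1)
        have h1' : (mk ⁻¹' (mk '' s.1)).ncard = (mk '' s.1).ncard * Nat.card K := h1
        rw [hs, s.2.1] at h1'
        exact (Nat.eq_of_mul_eq_mul_right hKpos h1').symm⟩
      invFun := fun t => ⟨mk ⁻¹' t.1, by
        have h1 : (mk ⁻¹' t.1).ncard = t.1.ncard * Nat.card K := inv_preimage K t.1
        rw [h1, t.2], by
        intro k hk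
        rw [mem_stabilizer_iff]
        ext a
        rw [Set.mem_smul_set_iff_inv_smul_mem]
        show mk (k⁻¹ • a) ∈ t.1 ↔ mk a ∈ t.1
        have : mk (k⁻¹ • a) = mk a := by
          show (Quotient.mk'' (k⁻¹ • a) : Q) = Quotient.mk'' a
          rw [Quotient.eq'', QuotientGroup.rightRel_apply]
          simpa using hk
        rw [this]⟩
      left_inv := fun s => by
        apply Subtype.ext
        show mk ⁻¹' (mk '' s.1) = s.1
        ext a
        constructor
        · rintro ⟨b, hb, hba⟩
          have h : (Quotient.mk'' b : Q) = Quotient.mk'' a := hba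
          rw [Quotient.eq'', QuotientGroup.rightRel_apply] at h
          have h2 := s.2.2 h
          rw [mem_stabilizer_iff] at h2
          rw [← h2]
          refine ⟨b, hb, ?_⟩
          simp
        · intro ha
          exact ⟨a, ha, rfl⟩
      right_inv := fun t => by
        apply Subtype.ext
        exact Set.image_preimage_eq t.1 hmk }
  rw [Nat.card_congr e, ← hQc]
  haveI : Fintype Q := Fintype.ofFinite Q
  have e2 : {t : Set Q // t.ncard = j} ≃ {t : Finset Q // t.card = j} :=
    { toFun := fun t => ⟨t.1.toFinset, by
        have h := t.2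
        rw [Set.ncard_eq_toFinset_card'] at h
        exact h⟩
      invFun := fun t => ⟨(t.1 : Set Q), by rw [Set.ncard_coe_finset, t.2]⟩
      left_inv := fun t => by apply Subtype.ext; simp
      right_inv := fun t => by apply Subtype.ext; simp }
  rw [Nat.card_congr e2, Nat.card_eq_fintype_card, Fintype.card_finset_len,
    Nat.card_eq_fintype_card]

end Cfsg.Agent.Lib.Helper28.Kul
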