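import Mathlib
import Cfsg.Agent.Lib.Helper28.Kul.Defs
import Cfsg.Agent.Lib.Helper70.Wielandt

set_option autoImplicit false
open scoped Pointwise
open MulAction

namespace Cfsg.Agent.Lib.Helper28.Kul

/-- Subsets of size `k` whose stabilizer has order neither `k` nor `k'`, as a sub-action. -/
def smallStab2 (G : Type*) [Group G] (k k' : ℕ) : SubMulAction G (Set G) where
  carrier := {s | s.ncard = k ∧ Nat.card (stabilizer G s) ≠ k ∧ Nat.card (stabilizer G s) ≠ k'}
  smul_mem' g s hs := by
    refine ⟨by rw [Set.ncard_smul_set]; exact hs.1, ?_, ?_⟩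
    · rw [stabilizer_smul_eq_stabilizer_map_conj,
        Subgroup.card_map_of_injective (MulEquiv.injective _)]
      exact hs.2.1
    · rw [stabilizer_smul_eq_stabilizer_map_conj,
        Subgroup.card_map_of_injective (MulEquiv.injective _)]
      exact hs.2.2

/-- SMALL -/
theorem small {G : Type*} [Group G] [Finite G] {p β m : ℕ} (hp : p.Prime)
    (hG : Nat.card G = p ^ (β + 1) * m) :
    p ^ 2 * m ∣ Nat.card {s : Set G // s.ncard = p ^ (β + 1) ∧
      Nat.card (stabilizer G s) ≠ p ^ (β + 1) ∧ Nat.card (stabilizer G s) ≠ p ^ β} := by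
  have key : p ^ 2 * m ∣ Nat.card (smallStab2 G (p ^ (β + 1)) (p ^ β)) := by
    apply Cfsg.Agent.Lib.Helper70.dvd_card_of_stabilizer (G := G)
    intro y
    rw [SubMulAction.stabilizer_of_subMul]
    obtain ⟨h1, h2, h2'⟩ := y.2
    have h3 : Nat.card (stabilizer G (y : Set G)) ∣ p ^ (β + 1) := by
      have := Cfsg.Agent.Lib.Helper70.card_stabilizer_dvd_ncard (y : Set G)
      rwa [h1] at this
    obtain ⟨j, hj, hj'⟩ := (Nat.dvd_prime_pow hp).mp h3
    have hlt : j + 2 ≤ β + 1 := by
      have hne1 : j ≠ β + 1 := fun h => h2 (by rw [hj', h])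
      have hne2 : j ≠ β := fun h => h2' (by rw [hj', h])
      omega
    rw [hj', hG]
    have : p ^ (β + 1) = p ^ 2 * p ^ j * p ^ (β + 1 - (j + 2)) := by
      rw [← pow_add, ← pow_add]
      congr 1
      omega
    rw [this]
    exact ⟨p ^ (β + 1 - (j + 2)), by ring⟩
  exact key

end Cfsg.Agent.Lib.Helper28.Kul
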