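import Mathlib
import Cfsg.Agent.Lib.Helper28.Kul.Defs
import Cfsg.Agent.Lib.Helper28.Kul.INV
import Cfsg.Agent.Lib.Helper28.Kul.SMALL
import Cfsg.Agent.Lib.Helper70.Wielandt

set_option autoImplicit false
open scoped Pointwise
open MulAction

namespace Cfsg.Agent.Lib.Helper28.Kul

/-- splitting a count along a predicate -/
theorem w2_split {α : Type*} [Finite α] (A B : α → Prop) :
    Nat.card {x : α // A x} = Nat.card {x : α // A x ∧ B x} + Nat.card {x : α // A x ∧ ¬ B x} := by
  classical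
  have e : {x : α // A x} ≃ {x : α // A x ∧ B x} ⊕ {x : α // A x ∧ ¬ B x} :=
    (Equiv.sumCompl (fun x : {x : α // A x} => B x.1)).symm.trans
      (Equiv.sumCongr (Equiv.subtypeSubtypeEquivSubtypeInter A B)
        (Equiv.subtypeSubtypeEquivSubtypeInter A (fun x => ¬ B x)))
  rw [Nat.card_congr e, Nat.card_sum]

/-- the subsets of size `k` with stabilizer `H` are the `m` right cosets of `H` -/
theorem w2_fib {G : Type*} [Group G] [Finite G] {k m : ℕ} (hk : 0 < k) (hG : Nat.card G = k * m)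
    (H : Subgroup G) (hH : Nat.card H = k) :
    Nat.card {s : Set G // s.ncard = k ∧ stabilizer G s = H} = m := by
  rw [← Cfsg.Agent.Lib.Helper70.card_orbit_op hk hG H hH]
  apply Nat.card_congr
  refine Equiv.subtypeEquivRight ?_
  intro s
  constructor
  · rintro ⟨h1, h2⟩
    have := Cfsg.Agent.Lib.Helper70.mem_orbit_op_of_card_stabilizer hk s h1 (by rw [h2]; exact hH)
    rwa [h2] at this
  · rintro ⟨x, rfl⟩
    induction x using MulOpposite.rec' with | _ x => ?_
    refine ⟨?_, ?_⟩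
    · change (MulOpposite.op x • (H : Set G)).ncard = k
      rw [Set.ncard_smul_set]; exact hH
    · exact Cfsg.Agent.Lib.Helper70.stabilizer_right_coset H x

/-- a stabilizer containing a subgroup of order `p ^ β` -/
theorem w2_stab {G : Type*} [Group G] [Finite G] {p β : ℕ} (hp : p.Prime) (K : Subgroup G)
    (s : Set G) (h1 : Nat.card K = p ^ β) (h2 : s.ncard = p ^ (β + 1)) (h3 : K ≤ stabilizer G s)
    (h4 : ¬ Nat.card (stabilizer G s) = p ^ (β + 1)) : Nat.card (stabilizer G s) = p ^ β := by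
  have h1' : p ^ β ∣ Nat.card (stabilizer G s) := by
    rw [← h1]; exact Subgroup.card_dvd_of_le h3
  have h2' : Nat.card (stabilizer G s) ∣ p ^ (β + 1) := by
    have := Cfsg.Agent.Lib.Helper70.card_stabilizer_dvd_ncard s
    rwa [h2] at this
  obtain ⟨j, hj, hj'⟩ := (Nat.dvd_prime_pow hp).mp h2'
  rw [hj'] at h1'
  have h3' : β ≤ j := (Nat.pow_dvd_pow_iff_le_right hp.one_lt).mp h1'
  have h4' : j ≠ β + 1 := fun h => h4 (by rw [hj', h])
  have h5' : j = β := by omega
  rw [hj', h5']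

/-- W2 -/
theorem w2 {G : Type*} [Group G] [Finite G] {p β m : ℕ} (hp : p.Prime)
    (hG : Nat.card G = p ^ (β + 1) * m) :
    Nat.card {s : Set G // s.ncard = p ^ (β + 1)} + prs G (p ^ β) (p ^ (β + 1)) * m ≡
      sub G (p ^ (β + 1)) * m + sub G (p ^ β) * (p * m).choose p [MOD p ^ 2 * m] := by
  classical
  have hk : 0 < p ^ (β + 1) := pow_pos hp.pos _
  have hk' : 0 < p ^ β := pow_pos hp.pos _
  have hne : p ^ β ≠ p ^ (β + 1) := by
    intro h
    have := Nat.pow_right_injective hp.two_le h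
    omega
  -- the three kinds of subsets
  have hsplit : Nat.card {s : Set G // s.ncard = p ^ (β + 1)} =
      sub G (p ^ (β + 1)) * m +
      (Nat.card {s : Set G // s.ncard = p ^ (β + 1) ∧ Nat.card (stabilizer G s) = p ^ β} +
       Nat.card {s : Set G // s.ncard = p ^ (β + 1) ∧
        Nat.card (stabilizer G s) ≠ p ^ (β + 1) ∧ Nat.card (stabilizer G s) ≠ p ^ β}) := by
    rw [w2_split (fun s : Set G => s.ncard = p ^ (β + 1))
      (fun s => Nat.card (stabilizer G s) = p ^ (β + 1)),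
      Cfsg.Agent.Lib.Helper70.card_bigStab hk hG]
    congr 1
    rw [w2_split (fun s : Set G => s.ncard = p ^ (β + 1) ∧
      ¬ Nat.card (stabilizer G s) = p ^ (β + 1)) (fun s => Nat.card (stabilizer G s) = p ^ β)]
    congr 1
    · apply Nat.card_congr
      refine Equiv.subtypeEquivRight ?_
      intro s
      constructor
      · rintro ⟨⟨h1, _⟩, h3⟩; exact ⟨h1, h3⟩
      · rintro ⟨h1, h3⟩; exact ⟨⟨h1, by rw [h3]; exact hne⟩, h3⟩
    · apply Nat.card_congr
      refine Equiv.subtypeEquivRight ?_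
      intro s
      constructor
      · rintro ⟨⟨h1, h2⟩, h3⟩; exact ⟨h1, h2, h3⟩
      · rintro ⟨h1, h2, h3⟩; exact ⟨⟨h1, h2⟩, h3⟩
  -- pairs, counted by `K`
  have hPr1 : Nat.card {Ks : Subgroup G × Set G // Nat.card Ks.1 = p ^ β ∧
      Ks.2.ncard = p ^ (β + 1) ∧ Ks.1 ≤ stabilizer G Ks.2} =
      sub G (p ^ β) * (p * m).choose p := by
    have e : {Ks : Subgroup G × Set G // Nat.card Ks.1 = p ^ β ∧
        Ks.2.ncard = p ^ (β + 1) ∧ Ks.1 ≤ stabilizer G Ks.2} ≃
        Σ K : {K : Subgroup G // Nat.card K = p ^ β},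
          {s : Set G // s.ncard = p ^ (β + 1) ∧ K.1 ≤ stabilizer G s} :=
      { toFun := fun x => ⟨⟨x.1.1, x.2.1⟩, ⟨x.1.2, x.2.2⟩⟩
        invFun := fun y => ⟨(y.1.1, y.2.1), y.1.2, y.2.2⟩
        left_inv := fun x => rfl
        right_inv := fun y => rfl }
    have : Fintype {K : Subgroup G // Nat.card K = p ^ β} := Fintype.ofFinite _
    rw [Nat.card_congr e, Nat.card_sigma]
    have hterm : ∀ K : {K : Subgroup G // Nat.card K = p ^ β},
        Nat.card {s : Set G // s.ncard = p ^ (β + 1) ∧ K.1 ≤ stabilizer G s} =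
          (p * m).choose p := by
      intro K
      have h1 := inv K.1 p
      have hidx : K.1.index = p * m := by
        have h2 := K.1.card_mul_index
        rw [K.2, hG, pow_succ, mul_assoc] at h2
        exact Nat.eq_of_mul_eq_mul_left hk' h2
      rw [hidx, K.2, mul_comm p, ← pow_succ] at h1
      exact h1
    rw [Finset.sum_congr rfl (fun K _ => hterm K), Finset.sum_const, Finset.card_univ,
      smul_eq_mul, sub, Nat.card_eq_fintype_card]
  -- pairs, counted by `s`
  have hPr2 : Nat.card {Ks : Subgroup G × Set G // Nat.card Ks.1 = p ^ β ∧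
      Ks.2.ncard = p ^ (β + 1) ∧ Ks.1 ≤ stabilizer G Ks.2} =
      prs G (p ^ β) (p ^ (β + 1)) * m +
      Nat.card {s : Set G // s.ncard = p ^ (β + 1) ∧ Nat.card (stabilizer G s) = p ^ β} := by
    rw [w2_split (fun Ks : Subgroup G × Set G => Nat.card Ks.1 = p ^ β ∧
      Ks.2.ncard = p ^ (β + 1) ∧ Ks.1 ≤ stabilizer G Ks.2)
      (fun Ks => Nat.card (stabilizer G Ks.2) = p ^ (β + 1))]
    congr 1
    · have e : {Ks : Subgroup G × Set G // (Nat.card Ks.1 = p ^ β ∧
          Ks.2.ncard = p ^ (β + 1) ∧ Ks.1 ≤ stabilizer G Ks.2) ∧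
          Nat.card (stabilizer G Ks.2) = p ^ (β + 1)} ≃
          Σ KH : {KH : Subgroup G × Subgroup G // Nat.card KH.1 = p ^ β ∧
            Nat.card KH.2 = p ^ (β + 1) ∧ KH.1 ≤ KH.2},
            {s : Set G // s.ncard = p ^ (β + 1) ∧ stabilizer G s = KH.1.2} :=
        { toFun := fun x => ⟨⟨(x.1.1, stabilizer G x.1.2), x.2.1.1, x.2.2, x.2.1.2.2⟩,
            ⟨x.1.2, x.2.1.2.1, rfl⟩⟩
          invFun := fun y => ⟨(y.1.1.1, y.2.1), ⟨y.1.2.1, y.2.2.1, by
            rw [y.2.2.2]; exact y.1.2.2.2⟩, by rw [y.2.2.2]; exact y.1.2.2.1⟩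
          left_inv := fun x => rfl
          right_inv := by
            rintro ⟨⟨⟨K, H⟩, h1, h2, h3⟩, ⟨s, h4, h5⟩⟩
            simp only at h5
            subst h5
            rfl }
      have : Fintype {KH : Subgroup G × Subgroup G // Nat.card KH.1 = p ^ β ∧
            Nat.card KH.2 = p ^ (β + 1) ∧ KH.1 ≤ KH.2} := Fintype.ofFinite _
      rw [Nat.card_congr e, Nat.card_sigma,
        Finset.sum_congr rfl (fun KH _ => w2_fib hk hG KH.1.2 KH.2.2.1), Finset.sum_const,
        Finset.card_univ, smul_eq_mul, prs, Nat.card_eq_fintype_card]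
    · apply Nat.card_congr
      exact
        { toFun := fun x => ⟨x.1.2, x.2.1.2.1,
            w2_stab hp x.1.1 x.1.2 x.2.1.1 x.2.1.2.1 x.2.1.2.2 x.2.2⟩
          invFun := fun s => ⟨(stabilizer G s.1, s.1), ⟨s.2.2, s.2.1, le_rfl⟩, by
            rw [s.2.2]; exact hne⟩
          left_inv := by
            rintro ⟨⟨K, s⟩, ⟨h1, h2, h3⟩, h4⟩
            have h5 : Nat.card (stabilizer G s) = p ^ β := w2_stab hp K s h1 h2 h3 h4
            have h6 : K = stabilizer G s :=
              Subgroup.eq_of_le_of_card_ge h3 (by rw [h1, h5])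
            subst h6
            rfl
          right_inv := fun s => rfl }
  obtain ⟨c, hc⟩ := small (G := G) hp hG
  rw [hsplit, hc]
  have h7 := hPr1.symm.trans hPr2
  rw [h7]
  have : sub G (p ^ (β + 1)) * m +
      (Nat.card {s : Set G // s.ncard = p ^ (β + 1) ∧ Nat.card (stabilizer G s) = p ^ β} +
        p ^ 2 * m * c) + prs G (p ^ β) (p ^ (β + 1)) * m =
      (sub G (p ^ (β + 1)) * m + (prs G (p ^ β) (p ^ (β + 1)) * m +
      Nat.card {s : Set G // s.ncard = p ^ (β + 1) ∧ Nat.card (stabilizer G s) = p ^ β})) +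
        p ^ 2 * m * c := by ring
  rw [this]
  exact (Nat.modEq_iff_dvd' (Nat.le_add_right _ _)).mpr (by simp) |>.symm

end Cfsg.Agent.Lib.Helper28.Kul
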