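import Mathlib
import Cfsg.Agent.Lib.Helper28.Kul.Defs
import Cfsg.Agent.Lib.Helper28.Kul.W2
import Cfsg.Agent.Lib.Helper28.Kul.TSUM
import Cfsg.Agent.Lib.Helper70.Wielandt

set_option autoImplicit false
open scoped Pointwise
open MulAction

namespace Cfsg.Agent.Lib.Helper28.Kul

/-- `choose (p m - 1) (p - 1) ≡ 1 [MOD p]` (Lucas) -/
theorem form_eps {p m : ℕ} (hp : p.Prime) (hm : m ≠ 0) :
    (p * m - 1).choose (p - 1) ≡ 1 [MOD p] := by
  have : Fact p.Prime := ⟨hp⟩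
  have h := Choose.choose_modEq_choose_mod_mul_choose_div_nat (n := p * m - 1) (k := p - 1) (p := p)
  obtain ⟨m', rfl⟩ : ∃ m', m = m' + 1 := ⟨m - 1, by omega⟩
  have hp1 : 1 ≤ p := hp.one_le
  have e1 : p * (m' + 1) - 1 = (p - 1) + p * m' := by
    rw [mul_add, mul_one]; omega
  have h1 : (p * (m' + 1) - 1) % p = p - 1 := by
    rw [e1, Nat.add_mul_mod_self_left, Nat.mod_eq_of_lt (by omega)]
  have h2 : (p - 1) % p = p - 1 := Nat.mod_eq_of_lt (by omega)
  have h3 : (p - 1) / p = 0 := Nat.div_eq_of_lt (by omega)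
  rw [h1, h2, h3, Nat.choose_self, Nat.choose_zero_right, one_mul] at h
  exact h

/-- `choose (p m) p = m * choose (p m - 1) (p - 1)` -/
theorem form_choose {p m : ℕ} (hp : p.Prime) (hm : m ≠ 0) :
    (p * m).choose p = m * (p * m - 1).choose (p - 1) := by
  have h := Nat.add_one_mul_choose_eq (p * m - 1) (p - 1)
  have hpm : 0 < p * m := Nat.mul_pos hp.pos (Nat.pos_of_ne_zero hm)
  have e1 : p * m - 1 + 1 = p * m := by omega
  have e2 : p - 1 + 1 = p := by have := hp.pos; omega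
  rw [e1, e2] at h
  have : p * (m * (p * m - 1).choose (p - 1)) = p * (p * m).choose p := by
    rw [← mul_assoc, h, mul_comm]
  exact (Nat.eq_of_mul_eq_mul_left hp.pos this).symm

/-- in a cyclic group there is exactly one subgroup of each admissible prime power order -/
theorem form_cyc_sub {C : Type*} [Group C] [Finite C] [IsCyclic C] {p j : ℕ} (hp : p.Prime)
    (h : p ^ j ∣ Nat.card C) : sub C (p ^ j) = 1 := by
  have : Fact p.Prime := ⟨hp⟩
  unfold sub
  rw [Nat.card_eq_one_iff_unique]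
  constructor
  · constructor
    intro H K
    exact Subtype.ext (Cfsg.Agent.Lib.Helper70.eq_of_card_eq_of_isCyclic H.1 K.1
      (H.2.trans K.2.symm))
  · obtain ⟨K, hK⟩ := Sylow.exists_subgroup_card_pow_prime (G := C) p (n := j) h
    exact ⟨⟨K, hK⟩⟩

theorem form_cyc_prs {C : Type*} [Group C] [Finite C] [IsCyclic C] {p j : ℕ} (hp : p.Prime)
    (h : p ^ (j + 1) ∣ Nat.card C) : prs C (p ^ j) (p ^ (j + 1)) = 1 := by
  have : Fact p.Prime := ⟨hp⟩
  unfold prs
  rw [Nat.card_eq_one_iff_unique]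
  constructor
  · constructor
    intro H K
    apply Subtype.ext
    apply Prod.ext
    · exact Cfsg.Agent.Lib.Helper70.eq_of_card_eq_of_isCyclic _ _ (H.2.1.trans K.2.1.symm)
    · exact Cfsg.Agent.Lib.Helper70.eq_of_card_eq_of_isCyclic _ _ (H.2.2.1.trans K.2.2.1.symm)
  · obtain ⟨K, hK⟩ := Sylow.exists_subgroup_card_pow_prime (G := C) p (n := j)
      ((pow_dvd_pow p (Nat.le_succ j)).trans h)
    obtain ⟨H, hH, hKH⟩ := Sylow.exists_subgroup_card_pow_prime_le p h K hK (Nat.le_succ j)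
    exact ⟨⟨(K, H), hK, hH, hKH⟩⟩

/-- the basic congruence `ε + p ≡ s_β ε + p c_{β+1} [MOD p²]` -/
theorem form_key {G : Type*} [Group G] [Finite G] {p β : ℕ} (hp : p.Prime)
    (hdvd : p ^ (β + 1) ∣ Nat.card G) :
    ∃ ε : ℕ, ε ≡ 1 [MOD p] ∧
      ε + p ≡ sub G (p ^ β) * ε + p * cyc G (p ^ (β + 1)) [MOD p ^ 2] := by
  obtain ⟨m, hm⟩ := hdvd
  have hm0 : m ≠ 0 := by
    rintro rfl
    exact Nat.card_pos.ne' hm
  have : NeZero (p ^ (β + 1) * m) := ⟨mul_ne_zero (pow_pos hp.pos _).ne' hm0⟩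
  let C := Multiplicative (ZMod (p ^ (β + 1) * m))
  have hC : Nat.card C = p ^ (β + 1) * m := by
    change Nat.card (ZMod (p ^ (β + 1) * m)) = _
    rw [Nat.card_eq_fintype_card, ZMod.card]
  have h1 := w2 (G := G) hp hm
  have h2 := w2 (G := C) hp hC
  have hd1 : p ^ (β + 1) ∣ Nat.card C := by rw [hC]; exact dvd_mul_right _ _
  rw [form_cyc_sub hp hd1, form_cyc_sub hp ((pow_dvd_pow p (Nat.le_succ β)).trans hd1),
    form_cyc_prs hp hd1, one_mul, one_mul, add_comm m] at h2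
  have h2' := Nat.ModEq.add_right_cancel' m h2
  obtain ⟨e⟩ : Nonempty (G ≃ C) := Finite.card_eq.mp (hm.trans hC.symm)
  have hcongr : Nat.card {s : Set G // s.ncard = p ^ (β + 1)} =
      Nat.card {s : Set C // s.ncard = p ^ (β + 1)} := by
    apply Nat.card_congr
    refine (Equiv.Set.congr e).subtypeEquiv ?_
    intro s
    rw [Equiv.Set.congr_apply, Set.ncard_image_of_injective _ e.injective]
  rw [hcongr] at h1
  set ε := (p * m - 1).choose (p - 1) with hε
  have hCh : (p * m).choose p = m * ε := form_choose hp hm0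
  have hε1 : ε ≡ 1 [MOD p] := form_eps hp hm0
  refine ⟨ε, hε1, ?_⟩
  have h3 : (p * m).choose p + prs G (p ^ β) (p ^ (β + 1)) * m ≡
      sub G (p ^ (β + 1)) * m + sub G (p ^ β) * (p * m).choose p [MOD p ^ 2 * m] :=
    (h2'.symm.add_right _).trans h1
  rw [hCh] at h3
  have h4 : (ε + prs G (p ^ β) (p ^ (β + 1))) * m ≡
      (sub G (p ^ (β + 1)) + sub G (p ^ β) * ε) * m [MOD p ^ 2 * m] := by
    have e1 : (ε + prs G (p ^ β) (p ^ (β + 1))) * m = m * ε + prs G (p ^ β) (p ^ (β + 1)) * m := by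
      ring
    have e2 : (sub G (p ^ (β + 1)) + sub G (p ^ β) * ε) * m =
        sub G (p ^ (β + 1)) * m + sub G (p ^ β) * (m * ε) := by ring
    rw [e1, e2]; exact h3
  have h5 := Nat.ModEq.mul_right_cancel' hm0 h4
  have h6 := tsum (G := G) β hp
  have h7 : sub G (p ^ (β + 1)) ≡ 1 [MOD p] :=
    Cfsg.Agent.Lib.Helper70.card_subgroups_prime_pow_modEq_one p (β + 1) hp ⟨m, hm⟩
  have h8 : p * sub G (p ^ (β + 1)) ≡ p * 1 [MOD p ^ 2] := by
    rw [sq]; exact Nat.ModEq.mul_left' p h7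
  rw [← ZMod.natCast_eq_natCast_iff] at h5 h6 h8 ⊢
  push_cast at h5 h6 h8 ⊢
  linear_combination h5 - h6 - h8

/-- FORM -/
theorem form {G : Type*} [Group G] [Finite G] {p β : ℕ} (hp : p.Prime)
    (hdvd : p ^ (β + 1) ∣ Nat.card G) :
    (p ∣ cyc G (p ^ (β + 1)) → sub G (p ^ β) ≡ 1 + p [MOD p ^ 2]) ∧
      (cyc G (p ^ (β + 1)) ≡ 1 [MOD p] → sub G (p ^ β) ≡ 1 [MOD p ^ 2]) := by
  obtain ⟨ε, hε, hkey⟩ := form_key (G := G) hp hdvd
  have hcop : Nat.gcd (p ^ 2) ε = 1 := by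
    apply Nat.Coprime.pow_left
    rw [Nat.Prime.coprime_iff_not_dvd hp]
    intro hd
    have h0 : ε ≡ 0 [MOD p] := Nat.modEq_zero_iff_dvd.mpr hd
    have h1 : (1 : ℕ) ≡ 0 [MOD p] := hε.symm.trans h0
    have := Nat.modEq_zero_iff_dvd.mp h1
    exact hp.one_lt.ne' (Nat.dvd_one.mp this)
  have hpε : p * ε ≡ p * 1 [MOD p ^ 2] := by
    rw [sq]; exact Nat.ModEq.mul_left' p hε
  constructor
  · rintro ⟨c, hc⟩
    apply Nat.ModEq.cancel_right_of_coprime hcop
    have hz : ((p : ZMod (p ^ 2)) ^ 2) = 0 := by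
      have := ZMod.natCast_self (p ^ 2)
      push_cast at this
      exact this
    rw [hc] at hkey
    rw [← ZMod.natCast_eq_natCast_iff] at hkey hpε ⊢
    push_cast at hkey hpε ⊢
    linear_combination (-1 : ZMod (p ^ 2)) * hkey - hpε - (c : ZMod (p ^ 2)) * hz
  · intro hc
    apply Nat.ModEq.cancel_right_of_coprime hcop
    have hpc : p * cyc G (p ^ (β + 1)) ≡ p * 1 [MOD p ^ 2] := by
      rw [sq]; exact Nat.ModEq.mul_left' p hc
    rw [← ZMod.natCast_eq_natCast_iff] at hkey hpc ⊢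
    push_cast at hkey hpc ⊢
    linear_combination (-1 : ZMod (p ^ 2)) * hkey - hpc

end Cfsg.Agent.Lib.Helper28.Kul
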