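import Mathlib
import Cfsg.Agent.Lib.Helper28.Kul.Defs
import Cfsg.Agent.Lib.Helper71.NormalSq

set_option autoImplicit false

namespace Cfsg.Agent.Lib.Helper28.Kul

open Cfsg.Agent.Lib.Helper71

theorem ne1 {P : Type*} [Group P] [Finite P] {p : ℕ} [Fact p.Prime] (hP : IsPGroup p P)
    (A : Subgroup P) (hA : A.Normal) (hAc : IsMulCommutative A) (hAn : ¬ IsCyclic A) :
    ∃ E : Subgroup P, E.Normal ∧ Nat.card E = p ^ 2 ∧ ∀ x ∈ E, x ^ p = 1 := by
  have hAcomm : ∀ x ∈ A, ∀ y ∈ A, x * y = y * x := by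
    intro x hx y hy
    exact congrArg Subtype.val (mul_comm' (⟨x, hx⟩ : A) ⟨y, hy⟩)
  have hsq : p ^ 2 ∣ Nat.card (omg p A hAcomm) := by
    by_contra hcon
    have huniq : ∀ H K : Subgroup A, Nat.card H = p → Nat.card K = p → H = K := by
      intro H K hH hK
      by_contra hne
      apply hcon
      refine sq_dvd_card_omg hP A hAcomm (H.map A.subtype) (K.map A.subtype)
        (Subgroup.map_subtype_le _) (Subgroup.map_subtype_le _)
        (by rw [Subgroup.card_map_of_injective A.subtype_injective, hH])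
        (by rw [Subgroup.card_map_of_injective A.subtype_injective, hK]) ?_
      intro h
      exact hne (Subgroup.map_injective A.subtype_injective h)
    rcases Cfsg.Agent.S0016.result p (hP.to_subgroup A) huniq with h | ⟨-, n, ⟨e⟩⟩
    · exact hAn h
    · exact hAn (isCyclic_of_comm_quaternion (fun x y => mul_comm' x y) n e)
  have hΩn : (omg p A hAcomm).Normal := by
    constructor
    rintro x ⟨hx, hx1⟩ g
    exact ⟨hA.conj_mem x hx g, by rw [conj_pow, hx1, mul_one, mul_inv_cancel]⟩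
  obtain ⟨E, hE, hEn, hEc⟩ :=
    Cfsg.Agent.Lib.Helper3.exists_normal_le_card_eq 2 P hP (omg p A hAcomm) hΩn hsq
  exact ⟨E, hEn, hEc, fun x hx => (hE hx).2⟩

end Cfsg.Agent.Lib.Helper28.Kul
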