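import Mathlib
import Cfsg.Agent.Lib.Helper28.Kul.Defs
import Cfsg.Agent.S0112

set_option autoImplicit false

namespace Cfsg.Agent.Lib.Helper28.Kul

/-- an element with centraliser `{1, z, t, z t}` forces maximal class -/
theorem class_of_small_centralizer {P : Type*} [Group P] [Finite P] {m : ℕ}
    (hP : Nat.card P = 2 ^ m) (t z : P) (hz1 : z ≠ 1) (hzt : z ≠ t) (ht1 : t ≠ 1)
    (hcomm : z * t = t * z)
    (hall : ∀ g : P, g * t = t * g → g = 1 ∨ g = z ∨ g = t ∨ g = z * t) :
    Group.nilpotencyClass P = m - 1 := by
  classical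
  have : Fact (Nat.Prime 2) := ⟨Nat.prime_two⟩
  set A : Subgroup P := Subgroup.centralizer ({t} : Set P) with hA
  have hmem : ∀ g : P, g ∈ A ↔ g * t = t * g := by
    intro g
    rw [hA, Subgroup.mem_centralizer_singleton_iff]
  have hle : Nat.card A ≤ 4 := by
    have h1 : (A : Set P) ⊆ (({1, z, t, z * t} : Finset P) : Set P) := by
      intro g hg
      have := hall g ((hmem g).mp hg)
      simpa using this
    have h2 : (A : Set P).ncard ≤ (({1, z, t, z * t} : Finset P) : Set P).ncard :=
      Set.ncard_le_ncard h1 (Finset.finite_toSet _)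
    rw [Set.ncard_coe_finset] at h2
    have h3 : ({1, z, t, z * t} : Finset P).card ≤ 4 := Finset.card_le_four
    have h4 : Nat.card A = (A : Set P).ncard := rfl
    omega
  have hge : 3 ≤ Nat.card A := by
    have h1 : (({1, z, t} : Finset P) : Set P) ⊆ (A : Set P) := by
      intro g hg
      simp only [Finset.coe_insert, Finset.coe_singleton, Set.mem_insert_iff,
        Set.mem_singleton_iff] at hg
      rcases hg with rfl | rfl | rfl
      · exact A.one_mem
      · exact (hmem _).mpr hcomm
      · exact (hmem _).mpr rfl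
    have h2 : (({1, z, t} : Finset P) : Set P).ncard ≤ (A : Set P).ncard :=
      Set.ncard_le_ncard h1 (Set.toFinite _)
    rw [Set.ncard_coe_finset] at h2
    have h3 : ({1, z, t} : Finset P).card = 3 := by
      rw [Finset.card_insert_of_notMem, Finset.card_insert_of_notMem, Finset.card_singleton]
      · simpa using hzt
      · simp only [Finset.mem_insert, Finset.mem_singleton, not_or]
        exact ⟨hz1.symm, ht1.symm⟩
    have h4 : Nat.card A = (A : Set P).ncard := rfl
    omega
  have hcard : Nat.card A = 2 ^ 2 := by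
    have hd : Nat.card A ∣ 2 ^ m := hP ▸ Subgroup.card_subgroup_dvd_card A
    obtain ⟨j, _, hj⟩ := (Nat.dvd_prime_pow Nat.prime_two).mp hd
    rw [hj] at hle hge ⊢
    have hj3 : j < 3 := by
      by_contra h
      have : 2 ^ 3 ≤ 2 ^ j := Nat.pow_le_pow_right (by norm_num) (by omega)
      omega
    interval_cases j <;> simp_all
  have hAc : IsMulCommutative A := IsPGroup.isMulCommutative_of_card_eq_prime_sq hcard
  refine Cfsg.Agent.S0112.result (p := 2) m hP A hcard ?_
  apply le_antisymm
  · intro g hg
    rw [hmem]
    have htA : t ∈ A := (hmem t).mpr rfl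
    exact (Subgroup.mem_centralizer_iff.mp hg t htA).symm
  · intro g hg
    refine Subgroup.mem_centralizer_iff.mpr ?_
    intro b hb
    have := hAc.is_comm.comm (⟨b, hb⟩ : A) ⟨g, hg⟩
    exact congrArg Subtype.val this

/-- solutions of `i = -i` in `ZMod (2 k)` -/
theorem zmod_two_mul_eq_zero {k : ℕ} (hk : k ≠ 0) (i : ZMod (2 * k)) (h : i + i = 0) :
    i = 0 ∨ i = (k : ZMod (2 * k)) := by
  have : NeZero (2 * k) := ⟨by omega⟩
  have hi : ((i.val : ℕ) : ZMod (2 * k)) = i := ZMod.natCast_zmod_val i
  have h1 : ((i.val + i.val : ℕ) : ZMod (2 * k)) = 0 := by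
    push_cast
    rw [hi]; exact h
  rw [ZMod.natCast_eq_zero_iff] at h1
  have hlt : i.val < 2 * k := ZMod.val_lt i
  obtain ⟨c, hc⟩ := h1
  have hc2 : c < 2 := by
    by_contra hcc
    have : 2 * k * 2 ≤ 2 * k * c := Nat.mul_le_mul_left _ (by omega)
    omega
  interval_cases c
  · left
    rw [← hi]
    have : i.val = 0 := by omega
    rw [this]; simp
  · right
    rw [← hi]
    have : i.val = k := by omega
    rw [this]

theorem zmod_natCast_half_ne_zero {k : ℕ} (hk : k ≠ 0) : (k : ZMod (2 * k)) ≠ 0 := by
  intro h
  rw [ZMod.natCast_eq_zero_iff] at h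
  have := Nat.le_of_dvd (by omega) h
  omega

/-- the class is an isomorphism invariant -/
theorem nilpotencyClass_congr {P Q : Type*} [Group P] [Group Q] [Group.IsNilpotent P]
    (e : P ≃* Q) : Group.nilpotencyClass P = Group.nilpotencyClass Q := by
  have : Group.IsNilpotent Q := Group.nilpotent_of_surjective e.toMonoidHom e.surjective
  apply le_antisymm
  · exact Group.nilpotencyClass_le_of_surjective e.symm.toMonoidHom e.symm.surjective
  · exact Group.nilpotencyClass_le_of_surjective e.toMonoidHom e.surjective

/-- NEQ -/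
theorem neq {P : Type*} [Group P] [Finite P] {m : ℕ} (hP : Nat.card P = 2 ^ m)
    (hnc : ¬ IsCyclic P) (n : ℕ) (e : P ≃* QuaternionGroup n) :
    Group.nilpotencyClass P = m - 1 := by
  have : Fact (Nat.Prime 2) := ⟨Nat.prime_two⟩
  have : Group.IsNilpotent P := (IsPGroup.of_card hP).isNilpotent
  rw [nilpotencyClass_congr e]
  have : Finite (QuaternionGroup n) := Finite.of_equiv P e.toEquiv
  have hQ : Nat.card (QuaternionGroup n) = 2 ^ m := by rw [← hP]; exact (Nat.card_congr e.toEquiv).symm
  have hn0 : n ≠ 0 := by
    rintro rfl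
    have hinj : Function.Injective (fun i : ℤ => (QuaternionGroup.a i : QuaternionGroup 0)) := by
      intro i j hij
      exact QuaternionGroup.a.inj hij
    exact not_finite_iff_infinite.mpr (inferInstance : Infinite ℤ) (Finite.of_injective _ hinj)
  have hne : (n : ZMod (2 * n)) ≠ 0 := zmod_natCast_half_ne_zero hn0
  have hnn : (n : ZMod (2 * n)) + n = 0 := by
    have : ((2 * n : ℕ) : ZMod (2 * n)) = 0 := ZMod.natCast_self _
    push_cast at this
    rw [← this]; ring
  refine class_of_small_centralizer hQ (QuaternionGroup.xa 0) (QuaternionGroup.a n) ?_ ?_ ?_ ?_ ?_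
  · rw [QuaternionGroup.one_def]
    intro h
    exact hne (QuaternionGroup.a.inj h)
  · intro h; cases h
  · rw [QuaternionGroup.one_def]
    intro h; cases h
  · simp only [QuaternionGroup.a_mul_xa, QuaternionGroup.xa_mul_a]
    congr 1
    linear_combination -hnn
  · intro g hg
    rcases g with i | i
    · simp only [QuaternionGroup.a_mul_xa, QuaternionGroup.xa_mul_a] at hg
      have h1 := QuaternionGroup.xa.inj hg
      have h2 : i + i = 0 := by linear_combination -h1
      rcases zmod_two_mul_eq_zero hn0 i h2 with rfl | rfl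
      · left; rfl
      · right; left; rfl
    · simp only [QuaternionGroup.xa_mul_xa] at hg
      have h1 := QuaternionGroup.a.inj hg
      have h2 : i + i = 0 := by linear_combination -h1
      rcases zmod_two_mul_eq_zero hn0 i h2 with rfl | rfl
      · right; right; left; rfl
      · right; right; right
        simp only [QuaternionGroup.a_mul_xa]
        congr 1
        linear_combination hnn

end Cfsg.Agent.Lib.Helper28.Kul
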