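import Mathlib
import Cfsg.Agent.Lib.Helper28.Kul.NEQ

set_option autoImplicit false

namespace Cfsg.Agent.Lib.Helper28.Kul

/-- the dihedral group of degree `2 k` -/
theorem ned_aux {m k : ℕ} (hk : k ≠ 0) (hQ : Nat.card (DihedralGroup (2 * k)) = 2 ^ m) :
    Group.nilpotencyClass (DihedralGroup (2 * k)) = m - 1 := by
  have : NeZero (2 * k) := ⟨by omega⟩
  have hne : (k : ZMod (2 * k)) ≠ 0 := zmod_natCast_half_ne_zero hk
  have hnn : (k : ZMod (2 * k)) + k = 0 := by
    have : ((2 * k : ℕ) : ZMod (2 * k)) = 0 := ZMod.natCast_self _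
    push_cast at this
    rw [← this]; ring
  refine class_of_small_centralizer hQ (DihedralGroup.sr 0) (DihedralGroup.r k) ?_ ?_ ?_ ?_ ?_
  · rw [DihedralGroup.one_def]
    intro h
    exact hne (DihedralGroup.r.inj h)
  · intro h; cases h
  · rw [DihedralGroup.one_def]
    intro h; cases h
  · simp only [DihedralGroup.r_mul_sr, DihedralGroup.sr_mul_r]
    congr 1
    linear_combination -hnn
  · intro g hg
    rcases g with i | i
    · simp only [DihedralGroup.r_mul_sr, DihedralGroup.sr_mul_r] at hg
      have h1 := DihedralGroup.sr.inj hg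
      have h2 : i + i = 0 := by linear_combination -h1
      rcases zmod_two_mul_eq_zero hk i h2 with rfl | rfl
      · left; rfl
      · right; left; rfl
    · simp only [DihedralGroup.sr_mul_sr] at hg
      have h1 := DihedralGroup.r.inj hg
      have h2 : i + i = 0 := by linear_combination -h1
      rcases zmod_two_mul_eq_zero hk i h2 with rfl | rfl
      · right; right; left; rfl
      · right; right; right
        simp only [DihedralGroup.r_mul_sr]
        congr 1
        linear_combination hnn

/-- NED -/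
theorem ned {P : Type*} [Group P] [Finite P] {m : ℕ} (hP : Nat.card P = 2 ^ m)
    (n : ℕ) (hn : 8 ≤ n) (e : P ≃* DihedralGroup n) :
    Group.nilpotencyClass P = m - 1 := by
  have : Fact (Nat.Prime 2) := ⟨Nat.prime_two⟩
  have : Group.IsNilpotent P := (IsPGroup.of_card hP).isNilpotent
  rw [nilpotencyClass_congr e]
  have hQ : Nat.card (DihedralGroup n) = 2 ^ m := by
    rw [← hP]; exact (Nat.card_congr e.toEquiv).symm
  have h2 : 2 ∣ n := by
    have h1 := hQ
    rw [DihedralGroup.nat_card] at h1
    have hd : n ∣ 2 ^ m := ⟨2, by rw [← h1]; ring⟩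
    obtain ⟨j, _, rfl⟩ := (Nat.dvd_prime_pow Nat.prime_two).mp hd
    rcases j with _ | j
    · omega
    · exact ⟨2 ^ j, by ring⟩
  obtain ⟨k, rfl⟩ := h2
  exact ned_aux (by omega) hQ

end Cfsg.Agent.Lib.Helper28.Kul
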