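import Mathlib
import Cfsg.Agent.Lib.Helper28.Kul.NEQ

set_option autoImplicit false

namespace Cfsg.Agent.Lib.Helper28.Kul

/-- NEQD -/
theorem neqd {P : Type*} [Group P] [Finite P] {m : ℕ} (hP : Nat.card P = 2 ^ m)
    (n : ℕ) (hn : 3 ≤ n) (hc : Nat.card P = 2 ^ (n + 1)) (x y : P) (hx : orderOf x = 2 ^ n)
    (hy : orderOf y = 2) (hxy : y * x * y⁻¹ = x ^ (2 ^ (n - 1) - 1)) :
    Group.nilpotencyClass P = m - 1 := by
  obtain ⟨k, rfl⟩ : ∃ k, n = k + 3 := ⟨n - 3, by omega⟩
  have hk1 : k + 3 - 1 = k + 2 := by omega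
  rw [hk1] at hxy
  obtain ⟨c, hc1⟩ : ∃ c, c + 1 = 2 ^ (k + 1) := ⟨2 ^ (k + 1) - 1, by
    have : 0 < 2 ^ (k + 1) := by positivity
    omega⟩
  have he : 2 ^ (k + 2) - 1 = 2 * c + 1 := by
    have : 2 ^ (k + 2) = 2 * 2 ^ (k + 1) := by ring
    omega
  rw [he] at hxy
  have hcodd : Nat.Coprime (2 ^ (k + 2)) c := by
    apply Nat.Coprime.pow_left
    rw [Nat.coprime_two_left]
    have : 2 ^ (k + 1) = 2 * 2 ^ k := by ring
    rw [Nat.odd_iff]; omega
  have hc0 : 1 ≤ c := by
    have : 2 ^ (k + 1) = 2 * 2 ^ k := by ring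
    have : 0 < 2 ^ k := by positivity
    omega
  set z : P := x ^ (2 ^ (k + 2)) with hz
  have hy2 : y ^ 2 = 1 := by rw [← hy]; exact pow_orderOf_eq_one y
  have hyinv : y⁻¹ = y := by
    rw [inv_eq_iff_mul_eq_one, ← sq]; exact hy2
  have hz1 : z ≠ 1 := by
    apply pow_ne_one_of_lt_orderOf (by positivity)
    rw [hx]
    exact Nat.pow_lt_pow_right (by norm_num) (by omega)
  have hz2 : z ^ 2 = 1 := by
    rw [hz, ← pow_mul, ← pow_succ, ← hx]; exact pow_orderOf_eq_one x
  have hconj : ∀ i : ℕ, y * x ^ i * y⁻¹ = x ^ ((2 * c + 1) * i) := by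
    intro i
    rw [← conj_pow, hxy, pow_mul]
  -- powers of `x` commuting with `y`
  have hpow : ∀ i : ℕ, x ^ i * y = y * x ^ i → x ^ i = 1 ∨ x ^ i = z := by
    intro i hi
    have h1 : x ^ ((2 * c + 1) * i) = x ^ i := by
      rw [← hconj, ← hi]; group
    rw [pow_eq_pow_iff_modEq, hx] at h1
    have h2 : 2 * c * i + i ≡ 0 + i [MOD 2 ^ (k + 3)] := by
      have : (2 * c + 1) * i = 2 * c * i + i := by ring
      rw [← this, zero_add]; exact h1
    have h3 := Nat.ModEq.add_right_cancel' i h2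
    rw [Nat.modEq_zero_iff_dvd] at h3
    have h4 : 2 ^ (k + 2) ∣ c * i := by
      have h5 : 2 * 2 ^ (k + 2) ∣ 2 * (c * i) := by
        have e1 : 2 * 2 ^ (k + 2) = 2 ^ (k + 3) := by ring
        have e2 : 2 * (c * i) = 2 * c * i := by ring
        rw [e1, e2]; exact h3
      exact Nat.dvd_of_mul_dvd_mul_left (by norm_num) h5
    obtain ⟨j, rfl⟩ := hcodd.dvd_of_dvd_mul_left h4
    rw [pow_mul, ← hz]
    rcases Nat.even_or_odd' j with ⟨l, rfl | rfl⟩
    · left; rw [pow_mul, hz2, one_pow]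
    · right; rw [pow_succ, pow_mul, hz2, one_pow, one_mul]
  have hynot : y ∉ Subgroup.zpowers x := by
    intro hmem
    have hcm : y * x = x * y := by
      obtain ⟨j, rfl⟩ := Subgroup.mem_zpowers_iff.mp hmem
      exact ((Commute.refl x).zpow_left j).eq
    have h1 : x ^ (2 * c + 1) = x ^ 1 := by
      rw [← hxy, hcm, pow_one]; group
    rw [pow_eq_pow_iff_modEq, hx] at h1
    have hlt : 2 * c + 1 < 2 ^ (k + 3) := by
      have : 2 ^ (k + 3) = 4 * 2 ^ (k + 1) := by ring
      omega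
    have hlt1 : 1 < 2 ^ (k + 3) := Nat.one_lt_pow (by omega) (by norm_num)
    have := Nat.ModEq.eq_of_lt_of_lt h1 hlt hlt1
    omega
  have hidx : (Subgroup.zpowers x).index = 2 := by
    have h1 := (Subgroup.zpowers x).card_mul_index
    rw [Nat.card_zpowers, hx, hc, pow_succ] at h1
    exact Nat.eq_of_mul_eq_mul_left (by positivity) h1
  have hzmem : z ∈ Subgroup.zpowers x := Subgroup.pow_mem _ (Subgroup.mem_zpowers x) _
  have hmemP : ∀ g ∈ Subgroup.zpowers x, g * y = y * g → g = 1 ∨ g = z := by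
    intro g hg hgy
    rw [← mem_powers_iff_mem_zpowers] at hg
    obtain ⟨i, rfl⟩ := hg
    exact hpow i hgy
  refine class_of_small_centralizer hP y z hz1 ?_ ?_ ?_ ?_
  · intro h; exact hynot (h ▸ hzmem)
  · intro h; rw [h, orderOf_one] at hy; omega
  · have h1 : y * z * y⁻¹ = z := by
      rw [hz, hconj, mul_comm, pow_mul, ← hz, pow_succ, pow_mul, hz2, one_pow, one_mul]
    calc z * y = (y * z * y⁻¹) * y := by rw [h1]
      _ = y * z := by group
  · intro g hg
    by_cases hgm : g ∈ Subgroup.zpowers x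
    · rcases hmemP g hgm hg with h | h
      · left; exact h
      · right; left; exact h
    · have h1 : g * y ∈ Subgroup.zpowers x := by
        rw [Subgroup.mul_mem_iff_of_index_two hidx]
        exact iff_of_false hgm hynot
      have h2 : (g * y) * y = y * (g * y) := by rw [hg, mul_assoc, hg]
      rcases hmemP _ h1 h2 with h | h
      · right; right; left
        rw [← hyinv]; exact eq_inv_of_mul_eq_one_left h
      · right; right; right
        rw [← h, mul_assoc, ← sq, hy2, mul_one]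

end Cfsg.Agent.Lib.Helper28.Kul
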