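import Mathlib
import Cfsg.Agent.Lib.Helper28.Kul.NEQ
import Cfsg.Agent.Lib.Helper28.Kul.NED
import Cfsg.Agent.Lib.Helper28.Kul.NEQD
import Cfsg.Agent.Lib.Helper28.Kul.NE1
import Cfsg.Agent.Lib.Helper70.Wielandt
import Cfsg.Agent.S0519
import Cfsg.Agent.S0016

set_option autoImplicit false

namespace Cfsg.Agent.Lib.Helper28.Kul

/-- if all abelian subgroups are cyclic, a subgroup of order `p` equals any central one -/
theorem ne_unique {P : Type*} [Group P] [Finite P] {p : ℕ} [Fact p.Prime]
    (hall : ∀ B : Subgroup P, IsMulCommutative B → IsCyclic B)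
    (z : P) (hz : z ∈ Subgroup.center P) (hzo : orderOf z = p)
    (H : Subgroup P) (hH : Nat.card H = p) : H = Subgroup.zpowers z := by
  have hcyc : IsCyclic H := isCyclic_of_prime_card hH
  obtain ⟨⟨h, hhH⟩, hgen⟩ := hcyc.exists_generator
  have hHz : H = Subgroup.zpowers h := by
    apply le_antisymm
    · intro g hg
      obtain ⟨j, hj⟩ := Subgroup.mem_zpowers_iff.mp (hgen ⟨g, hg⟩)
      refine Subgroup.mem_zpowers_iff.mpr ⟨j, ?_⟩
      have := congrArg Subtype.val hj
      simpa using this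
    · rw [Subgroup.zpowers_le]; exact hhH
  set B : Subgroup P := Subgroup.closure ({h, z} : Set P) with hB
  have hBc : IsMulCommutative B := by
    apply Subgroup.isMulCommutative_closure
    have hzc : ∀ g : P, g * z = z * g := fun g => Subgroup.mem_center_iff.mp hz g
    intro a ha b hb
    simp only [Set.mem_insert_iff, Set.mem_singleton_iff] at ha hb
    rcases ha with rfl | rfl <;> rcases hb with rfl | rfl
    · rfl
    · exact hzc _
    · exact (hzc _).symm
    · rfl
  have hBcyc : IsCyclic B := hall B hBc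
  have hHB : H ≤ B := by
    rw [hHz, Subgroup.zpowers_le]
    exact Subgroup.subset_closure (by simp)
  have hZB : Subgroup.zpowers z ≤ B := by
    rw [Subgroup.zpowers_le]
    exact Subgroup.subset_closure (by simp)
  have h1 : H.subgroupOf B = (Subgroup.zpowers z).subgroupOf B := by
    apply Cfsg.Agent.Lib.Helper70.eq_of_card_eq_of_isCyclic
    rw [Nat.card_congr (Subgroup.subgroupOfEquivOfLe hHB).toEquiv,
      Nat.card_congr (Subgroup.subgroupOfEquivOfLe hZB).toEquiv, hH, Nat.card_zpowers, hzo]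
  have h2 := congrArg (Subgroup.map B.subtype) h1
  rwa [Subgroup.subgroupOf_map_subtype, Subgroup.subgroupOf_map_subtype,
    inf_eq_left.mpr hHB, inf_eq_left.mpr hZB] at h2

/-- NE -/
theorem ne {P : Type*} [Group P] [Finite P] {p m : ℕ} [Fact p.Prime] (hP : Nat.card P = p ^ m)
    (hnc : ¬ IsCyclic P) (h2 : p = 2 → Group.nilpotencyClass P ≠ m - 1) :
    ∃ E : Subgroup P, E.Normal ∧ Nat.card E = p ^ 2 ∧ (∀ x ∈ E, x ^ p = 1) ∧
      (p = 2 → Subgroup.centralizer (E : Set P) ≠ E) := by
  have hp : p.Prime := Fact.out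
  have hPG : IsPGroup p P := IsPGroup.of_card hP
  by_cases hn : ∀ A : Subgroup P, A.Normal → IsMulCommutative A → IsCyclic A
  · exfalso
    by_cases hm : ∃ B : Subgroup P, IsMulCommutative B ∧ ¬ IsCyclic B
    · obtain ⟨rfl, h⟩ := Cfsg.Agent.S0519.result p hPG hn hm
      rcases h with ⟨n, ⟨e⟩⟩ | ⟨n, hn8, ⟨e⟩⟩ | ⟨n, hn3, hc, x, y, hx, hy, hxy⟩
      · exact h2 rfl (neq hP hnc n e)
      · exact h2 rfl (ned hP n hn8 e)
      · exact h2 rfl (neqd hP n hn3 hc x y hx hy hxy)
    · push Not at hm
      have hnt : Nontrivial P := by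
        by_contra hnt
        rw [not_nontrivial_iff_subsingleton] at hnt
        exact hnc inferInstance
      have hZnt : Nontrivial (Subgroup.center P) := hPG.center_nontrivial
      have hdvd : p ∣ Nat.card (Subgroup.center P) := by
        obtain ⟨k, hk⟩ := (hPG.to_subgroup (Subgroup.center P)).exists_card_eq
        rcases k with _ | k
        · rw [pow_zero] at hk
          have := Finite.one_lt_card_iff_nontrivial.mpr hZnt
          omega
        · rw [hk]; exact ⟨p ^ k, by ring⟩
      obtain ⟨⟨z, hz⟩, hzo⟩ := exists_prime_orderOf_dvd_card' p hdvd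
      have hzo' : orderOf z = p := by
        rw [← hzo]; exact (Subgroup.orderOf_mk z hz).symm
      rcases Cfsg.Agent.S0016.result p hPG (fun H K hH hK => by
        rw [ne_unique hm z hz hzo' H hH, ne_unique hm z hz hzo' K hK]) with h | ⟨rfl, n, ⟨e⟩⟩
      · exact hnc h
      · exact h2 rfl (neq hP hnc _ e)
  · push Not at hn
    obtain ⟨A, hA, hAc, hAn⟩ := hn
    obtain ⟨E, hEn, hE, hEx⟩ := ne1 hPG A hA hAc hAn
    refine ⟨E, hEn, hE, hEx, ?_⟩
    rintro rfl hC
    exact h2 rfl (Cfsg.Agent.S0112.result m hP E hE hC)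

end Cfsg.Agent.Lib.Helper28.Kul
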