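import Mathlib
import Cfsg.Agent.Lib.Helper28.Kul.Defs
import Cfsg.Agent.Lib.Helper70.Kulakoff

set_option autoImplicit false

namespace Cfsg.Agent.Lib.Helper28.Kul

/-- a set closed under right multiplication by a subgroup -/
theorem o22_card_dvd {Q : Type*} [Group Q] (S : Subgroup Q) (Y : Set Q)
    (h : ∀ u ∈ Y, ∀ s ∈ S, u * s ∈ Y) : Nat.card S ∣ Nat.card Y := by
  have hY : Y = (QuotientGroup.mk : Q → Q ⧸ S) ⁻¹' ((QuotientGroup.mk : Q → Q ⧸ S) '' Y) := by
    ext v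
    constructor
    · intro hv
      exact ⟨v, hv, rfl⟩
    · rintro ⟨u, hu, huv⟩
      have h1 := QuotientGroup.eq.mp huv
      have h2 := h u hu _ h1
      rwa [mul_inv_cancel_left] at h2
  have hc := QuotientGroup.card_preimage_mk S ((QuotientGroup.mk : Q → Q ⧸ S) '' Y)
  rw [← hY] at hc
  rw [hc]
  exact dvd_mul_right _ _

/-- O22 -/
theorem o22 {P : Type*} [Group P] [Finite P] (hP : IsPGroup 2 P) (E : Subgroup P)
    (hEn : E.Normal) (hE : Nat.card E = 2 ^ 2) (hEx : ∀ x ∈ E, x ^ 2 = 1)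
    (hC : Subgroup.centralizer (E : Set P) ≠ E) :
    2 ^ 2 ∣ Nat.card {x : P // orderOf x = 2 ^ 2 ∧ bad 2 2 E x} := by
  classical
  have : Fact (Nat.Prime 2) := ⟨Nat.prime_two⟩
  rcases isEmpty_or_nonempty {x : P // orderOf x = 2 ^ 2 ∧ bad 2 2 E x} with
    hemp | ⟨⟨x₀, -, -, -, hx₀C, -⟩⟩
  · rw [Nat.card_of_isEmpty]
    exact dvd_zero _
  obtain ⟨C, hCdef⟩ : ∃ C, C = Subgroup.centralizer (E : Set P) := ⟨_, rfl⟩
  have hCn : C.Normal := hCdef ▸ Subgroup.normal_centralizer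
  have hmemC : ∀ g, g ∈ C ↔ ∀ e ∈ E, e * g = g * e := fun g => by
    rw [hCdef, Subgroup.mem_centralizer_iff]; rfl
  have hEab : ∀ a ∈ E, ∀ c ∈ E, a * c = c * a := by
    intro a ha c hc
    have := (IsPGroup.isMulCommutative_of_card_eq_prime_sq hE).is_comm.comm ⟨a, ha⟩ ⟨c, hc⟩
    exact congrArg Subtype.val this
  have hEC : E ≤ C := fun a ha => (hmemC a).mpr fun c hc => hEab c hc a ha
  have hne : E ≠ ⊥ := by
    rintro rfl
    rw [Subgroup.card_bot] at hE
    norm_num at hE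
  obtain ⟨e0, he0E, he0c, he0o⟩ := Cfsg.Agent.Lib.Helper3.exists_central_order_p hP E hne
  have he0comm : ∀ g : P, g * e0 = e0 * g := Subgroup.mem_center_iff.mp he0c
  have he01 : e0 ≠ 1 := by
    rintro rfl
    rw [orderOf_one] at he0o
    norm_num at he0o
  rw [← hCdef] at hx₀C
  obtain ⟨e1, he1E, he1x⟩ : ∃ e1 ∈ E, e1 * x₀ ≠ x₀ * e1 := by
    by_contra hcon
    push Not at hcon
    exact hx₀C ((hmemC x₀).mpr hcon)
  have he1c : e1 ∉ Subgroup.center P := fun h => he1x ((Subgroup.mem_center_iff.mp h x₀).symm)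
  obtain ⟨D, hD⟩ : ∃ D, D = Subgroup.zpowers e0 := ⟨_, rfl⟩
  have hDcard : Nat.card D = 2 := by rw [hD, Nat.card_zpowers, he0o]
  have hDE : D ≤ E := by rw [hD, Subgroup.zpowers_le]; exact he0E
  have hDcen : D ≤ Subgroup.center P := by rw [hD, Subgroup.zpowers_le]; exact he0c
  have hG : ∀ e ∈ E, e ∉ D → D ⊔ Subgroup.zpowers e = E := by
    intro e he heD
    have hle : D ⊔ Subgroup.zpowers e ≤ E := sup_le hDE (Subgroup.zpowers_le.mpr he)
    have h1 : 2 ∣ Nat.card (D ⊔ Subgroup.zpowers e : Subgroup P) :=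
      hDcard ▸ Subgroup.card_dvd_of_le le_sup_left
    have h2 : Nat.card (D ⊔ Subgroup.zpowers e : Subgroup P) ∣ 4 := by
      have := Subgroup.card_dvd_of_le hle
      rwa [hE] at this
    have h3 : Nat.card (D ⊔ Subgroup.zpowers e : Subgroup P) ≠ 2 := by
      intro h
      have : D = D ⊔ Subgroup.zpowers e :=
        Subgroup.eq_of_le_of_card_ge le_sup_left (by rw [h, hDcard])
      apply heD
      rw [this]
      exact (le_sup_right : Subgroup.zpowers e ≤ _) (Subgroup.mem_zpowers e)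
    have h4 : Nat.card (D ⊔ Subgroup.zpowers e : Subgroup P) = 4 := by
      have h5 := Nat.le_of_dvd (by norm_num) h2
      have h6 : 0 < Nat.card (D ⊔ Subgroup.zpowers e : Subgroup P) := Nat.card_pos
      generalize Nat.card (D ⊔ Subgroup.zpowers e : Subgroup P) = n at *
      interval_cases n <;> omega
    exact Subgroup.eq_of_le_of_card_ge hle (by rw [h4, hE]; norm_num)
  have he1D : e1 ∉ D := fun h => he1c (hDcen h)
  have hcent_of_comm : ∀ e ∈ E, e ∉ D → ∀ g, e * g = g * e → g ∈ C := by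
    intro e he heD g hg
    rw [hmemC]
    have hle : D ⊔ Subgroup.zpowers e ≤ Subgroup.centralizer {g} :=
      sup_le (fun d hd => Subgroup.mem_centralizer_singleton_iff.mpr
        ((Subgroup.mem_center_iff.mp (hDcen hd) g).symm))
        (Subgroup.zpowers_le.mpr (Subgroup.mem_centralizer_singleton_iff.mpr hg))
    rw [hG e he heD] at hle
    exact fun a ha => Subgroup.mem_centralizer_singleton_iff.mp (hle ha)
  have hEcen : ∀ e ∈ E, e ∈ Subgroup.center P → e ∈ D := by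
    intro e he hec
    by_contra heD
    apply he1c
    have hle : D ⊔ Subgroup.zpowers e ≤ Subgroup.center P :=
      sup_le hDcen (Subgroup.zpowers_le.mpr hec)
    rw [hG e he heD] at hle
    exact hle he1E
  have hDel : ∀ d ∈ D, d = 1 ∨ d = e0 := by
    intro d hd
    rw [hD] at hd
    obtain ⟨k, rfl⟩ := Subgroup.mem_zpowers_iff.mp hd
    have hsq : e0 ^ (2 : ℤ) = 1 := by
      have := hEx e0 he0E
      exact_mod_cast this
    rcases Int.even_or_odd' k with ⟨m, rfl | rfl⟩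
    · left
      rw [zpow_mul, hsq, one_zpow]
    · right
      rw [zpow_add, zpow_mul, hsq, one_zpow, one_mul, zpow_one]
  have hcomm1 : ∀ x, x ∉ C → e1 * x = e0 * (x * e1) := by
    intro x hx
    have h1 : e1 * x * e1⁻¹ * x⁻¹ ∈ Subgroup.center P :=
      Cfsg.Agent.Lib.Helper70.commutator_central_of_normal_card_sq hP E hE e1 he1E x
    have h2 : e1 * x * e1⁻¹ * x⁻¹ ∈ E := by
      have h3 : x * e1⁻¹ * x⁻¹ ∈ E := hEn.conj_mem _ (E.inv_mem he1E) x
      have : e1 * x * e1⁻¹ * x⁻¹ = e1 * (x * e1⁻¹ * x⁻¹) := by group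
      rw [this]
      exact E.mul_mem he1E h3
    rcases hDel _ (hEcen _ h2 h1) with h | h
    · exfalso
      apply hx
      apply hcent_of_comm e1 he1E he1D
      have : e1 * x = (e1 * x * e1⁻¹ * x⁻¹) * (x * e1) := by group
      rw [this, h, one_mul]
    · rw [← h]; group
  have hsq : ∀ x, x ∉ C → x ^ 2 ∈ E → x ^ 2 = 1 ∨ x ^ 2 = e0 := by
    intro x hx hxE
    apply hDel
    by_contra hnD
    exact hx (hcent_of_comm _ hxE hnD x (by rw [← pow_succ, ← pow_succ']))
  have hswap : ∀ x, x ∉ C → (x * e1) ^ 2 = e0 * x ^ 2 := by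
    intro x hx
    calc (x * e1) ^ 2 = x * (e1 * x) * e1 := by rw [sq]; simp only [mul_assoc]
      _ = x * (e0 * (x * e1)) * e1 := by rw [hcomm1 x hx]
      _ = e0 * (x * x * (e1 * e1)) := by
          rw [← mul_assoc x e0, he0comm x]; simp only [mul_assoc]
      _ = e0 * x ^ 2 := by rw [← sq e1, hEx e1 he1E, mul_one, sq]
  have hmulC : ∀ x, x ∉ C → ∀ c ∈ C, x * c ∉ C := by
    intro x hx c hc h
    apply hx
    have := C.mul_mem h (C.inv_mem hc)
    rwa [mul_inv_cancel_right] at this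
  -- the three sets
  have hB : Nat.card {x : P // orderOf x = 2 ^ 2 ∧ bad 2 2 E x} =
      Nat.card {x : P // x ∉ C ∧ x ^ 2 = e0} := by
    apply Nat.card_congr
    apply Equiv.subtypeEquivRight
    intro x
    constructor
    · rintro ⟨ho, -, -, hxC, hxE⟩
      rw [← hCdef] at hxC
      refine ⟨hxC, (hsq x hxC hxE).resolve_left fun h => ?_⟩
      have := orderOf_dvd_of_pow_eq_one h
      rw [ho] at this
      norm_num at this
    · rintro ⟨hxC, hx2⟩
      refine ⟨orderOf_eq_prime_pow (p := 2) (n := 1) ?_ ?_, rfl, rfl, hCdef ▸ hxC, hx2 ▸ he0E⟩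
      · rw [pow_one, hx2]
        exact he01
      · have : x ^ 2 ^ (1 + 1) = (x ^ 2) ^ 2 := by rw [← pow_mul]; norm_num
        rw [this, hx2, hEx e0 he0E]
  have hBI : Nat.card {x : P // x ∉ C ∧ x ^ 2 = e0} = Nat.card {x : P // x ∉ C ∧ x ^ 2 = 1} := by
    apply Nat.card_congr
    have he11 : e1 * e1 = 1 := by rw [← sq, hEx e1 he1E]
    exact
      { toFun := fun x => ⟨x.1 * e1, hmulC x.1 x.2.1 e1 (hEC he1E), by
          rw [hswap x.1 x.2.1, x.2.2, ← sq, hEx e0 he0E]⟩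
        invFun := fun x => ⟨x.1 * e1, hmulC x.1 x.2.1 e1 (hEC he1E), by
          rw [hswap x.1 x.2.1, x.2.2, mul_one]⟩
        left_inv := fun x => Subtype.ext (by simp [mul_assoc, he11])
        right_inv := fun x => Subtype.ext (by simp [mul_assoc, he11]) }
  have hT : Nat.card ({x : P | x ∉ C ∧ x ^ 2 ∈ E} : Set P) =
      Nat.card {x : P // x ∉ C ∧ x ^ 2 = e0} + Nat.card {x : P // x ∉ C ∧ x ^ 2 = 1} := by
    have hU : ({x : P | x ∉ C ∧ x ^ 2 ∈ E} : Set P) =
        {x : P | x ∉ C ∧ x ^ 2 = e0} ∪ {x : P | x ∉ C ∧ x ^ 2 = 1} := by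
      ext x
      constructor
      · rintro ⟨h1, h2⟩
        rcases hsq x h1 h2 with h | h
        · exact Or.inr ⟨h1, h⟩
        · exact Or.inl ⟨h1, h⟩
      · rintro (⟨h1, h2⟩ | ⟨h1, h2⟩)
        · exact ⟨h1, h2 ▸ he0E⟩
        · exact ⟨h1, h2 ▸ E.one_mem⟩
    have hdis : Disjoint ({x : P | x ∉ C ∧ x ^ 2 = e0} : Set P) {x : P | x ∉ C ∧ x ^ 2 = 1} := by
      rw [Set.disjoint_left]
      rintro x ⟨-, h1⟩ ⟨-, h2⟩
      exact he01 (h1.symm.trans h2)
    rw [Nat.card_coe_set_eq, hU, Set.ncard_union_eq hdis (Set.toFinite _) (Set.toFinite _),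
      ← Nat.card_coe_set_eq, ← Nat.card_coe_set_eq]
    rfl
  -- the subgroup of order 8
  have hmapn : (C.map (QuotientGroup.mk' E)).Normal := hCn.map _ (QuotientGroup.mk'_surjective E)
  have hmapne : C.map (QuotientGroup.mk' E) ≠ ⊥ := by
    intro h
    apply hC
    rw [← hCdef]
    apply le_antisymm _ hEC
    intro c hc
    have : QuotientGroup.mk' E c ∈ C.map (QuotientGroup.mk' E) := Subgroup.mem_map_of_mem _ hc
    rw [h, Subgroup.mem_bot] at this
    exact (QuotientGroup.eq_one_iff c).mp this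
  obtain ⟨wb, hwbC, hwbc, hwbo⟩ :=
    Cfsg.Agent.Lib.Helper3.exists_central_order_p (hP.to_quotient E) (C.map (QuotientGroup.mk' E))
      hmapne
  have hW8 : Nat.card ((Subgroup.zpowers wb).comap (QuotientGroup.mk' E)) = 8 := by
    rw [Cfsg.Agent.Lib.Helper3.card_comap_mk', Nat.card_zpowers, hwbo, hE]
    norm_num
  have hmem_of_map : ∀ v : P, QuotientGroup.mk' E v ∈ C.map (QuotientGroup.mk' E) → v ∈ C := by
    rintro v ⟨c, hc, hcv⟩
    have h1 : c⁻¹ * v ∈ E := QuotientGroup.eq.mp hcv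
    have := C.mul_mem hc (hEC h1)
    rwa [mul_inv_cancel_left] at this
  have h8 : 8 ∣ Nat.card ({x : P | x ∉ C ∧ x ^ 2 ∈ E} : Set P) := by
    rw [← hW8]
    apply o22_card_dvd
    rintro x ⟨hxC, hxE⟩ v hv
    rw [Subgroup.mem_comap] at hv
    have hvC : v ∈ C := hmem_of_map v ((Subgroup.zpowers_le.mpr hwbC) hv)
    refine ⟨hmulC x hxC v hvC, ?_⟩
    have hvc : QuotientGroup.mk' E v ∈ Subgroup.center (P ⧸ E) :=
      (Subgroup.zpowers_le.mpr hwbc) hv
    have hv2 : (QuotientGroup.mk' E v) ^ 2 = 1 :=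
      orderOf_dvd_iff_pow_eq_one.mp ((orderOf_dvd_of_mem_zpowers hv).trans (by rw [hwbo]))
    have hcm : Commute (QuotientGroup.mk' E x) (QuotientGroup.mk' E v) :=
      Subgroup.mem_center_iff.mp hvc _
    rw [← QuotientGroup.eq_one_iff]
    change (QuotientGroup.mk' E ((x * v) ^ 2)) = 1
    rw [map_pow, map_mul, hcm.mul_pow, hv2, mul_one, ← map_pow]
    exact (QuotientGroup.eq_one_iff _).mpr hxE
  rw [hB]
  rw [hT, ← hBI] at h8
  omega

end Cfsg.Agent.Lib.Helper28.Kul
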