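import Mathlib
import Cfsg.Agent.Lib.Helper28.Kul.Defs

set_option autoImplicit false

namespace Cfsg.Agent.Lib.Helper28.Kul

/-- the number of generators of a cyclic subgroup -/
theorem obc_card_gen {Q : Type*} [Group Q] [Finite Q] (u₀ : Q) :
    Nat.card {u : Q // Subgroup.zpowers u = Subgroup.zpowers u₀} = Nat.totient (orderOf u₀) := by
  classical
  have hfin : Fintype ↥(Subgroup.zpowers u₀) := Fintype.ofFinite _
  have hcard : Fintype.card ↥(Subgroup.zpowers u₀) = orderOf u₀ := by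
    rw [← Nat.card_eq_fintype_card, Nat.card_zpowers]
  have h1 := IsCyclic.card_orderOf_eq_totient (α := ↥(Subgroup.zpowers u₀)) (d := orderOf u₀)
    (by rw [hcard])
  rw [← h1, ← Fintype.card_subtype, ← Nat.card_eq_fintype_card]
  refine Nat.card_congr
    { toFun := fun u => ⟨⟨u.1, u.2.le (Subgroup.mem_zpowers u.1)⟩, ?_⟩
      invFun := fun c => ⟨c.1.1, ?_⟩
      left_inv := fun u => rfl
      right_inv := fun c => rfl }
  · rw [Subgroup.orderOf_mk, ← Nat.card_zpowers, u.2, Nat.card_zpowers]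
  · apply Subgroup.eq_of_le_of_card_ge (Subgroup.zpowers_le.mpr c.1.2)
    have := c.2
    rw [← Subgroup.orderOf_coe] at this
    rw [Nat.card_zpowers, Nat.card_zpowers, this]

/-- OBC -/
theorem obc {P : Type*} [Group P] [Finite P] (E : Subgroup P) [E.Normal] (S : Set P) (d : ℕ)
    (hsat : ∀ x ∈ S, ∀ y : P,
      Subgroup.zpowers (y : P ⧸ E) = Subgroup.zpowers (x : P ⧸ E) → y ∈ S)
    (hd : ∀ x ∈ S, d ∣ Nat.card E * Nat.totient (orderOf (x : P ⧸ E))) :
    d ∣ Nat.card S := by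
  classical
  have hfin : Fintype (Subgroup (P ⧸ E)) := Fintype.ofFinite _
  let f : S → Subgroup (P ⧸ E) := fun x => Subgroup.zpowers ((x : P) : P ⧸ E)
  rw [Nat.card_congr (Equiv.sigmaFiberEquiv f).symm, Nat.card_sigma]
  apply Finset.dvd_sum
  intro C _
  rcases isEmpty_or_nonempty {x : S // f x = C} with hemp | ⟨⟨x₀, hx₀⟩⟩
  · rw [Nat.card_of_isEmpty]
    exact dvd_zero d
  · have e : {x : S // f x = C} ≃
        ((QuotientGroup.mk : P → P ⧸ E) ⁻¹'
          {u : P ⧸ E | Subgroup.zpowers u = Subgroup.zpowers ((x₀ : P) : P ⧸ E)} : Set P) :=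
      { toFun := fun x => ⟨x.1.1, x.2.trans hx₀.symm⟩
        invFun := fun y => ⟨⟨y.1, hsat x₀ x₀.2 y.1 y.2⟩, (show _ = _ from y.2).trans hx₀⟩
        left_inv := fun x => rfl
        right_inv := fun y => rfl }
    rw [Nat.card_congr e, QuotientGroup.card_preimage_mk]
    have := obc_card_gen ((x₀ : P) : P ⧸ E)
    rw [show Nat.card ({u : P ⧸ E | Subgroup.zpowers u = Subgroup.zpowers ((x₀ : P) : P ⧸ E)} :
      Set (P ⧸ E)) = _ from this]
    exact hd x₀ x₀.2

end Cfsg.Agent.Lib.Helper28.Kul
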