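import Mathlib
import Cfsg.Agent.Lib.Helper28.Kul.Defs
import Cfsg.Agent.Lib.Helper70.Kulakoff

set_option autoImplicit false

namespace Cfsg.Agent.Lib.Helper28.Kul

theorem obs_pow_of_mem_zpowers {P : Type*} [Group P] {u w : P} (hw : w ∈ Subgroup.zpowers u)
    {n : ℕ} (hu : u ^ n = 1) : w ^ n = 1 :=
  orderOf_dvd_iff_pow_eq_one.mp
    ((orderOf_dvd_of_mem_zpowers hw).trans (orderOf_dvd_of_pow_eq_one hu))

/-- decomposition `v = w e` and the `p`-th power of `v` -/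
theorem obs_dec {P : Type*} [Group P] [Finite P] {p : ℕ} [Fact p.Prime] (hP : IsPGroup p P)
    (E : Subgroup P) [hEn : E.Normal] (hE : Nat.card E = p ^ 2) (hEx : ∀ x ∈ E, x ^ p = 1)
    (u v : P) (h : (v : P ⧸ E) ∈ Subgroup.zpowers (u : P ⧸ E)) :
    ∃ w ∈ Subgroup.zpowers u, ∃ e ∈ E, v = w * e ∧ ∃ c ∈ E, (∀ g : P, Commute c g) ∧
      v ^ p = c * w ^ p ∧ (p ≠ 2 → c = 1) ∧ (e * w = w * e → c = 1) := by
  have hp : p.Prime := Fact.out
  obtain ⟨i, hi⟩ := Subgroup.mem_zpowers_iff.mp h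
  have he : (u ^ i)⁻¹ * v ∈ E := by
    rw [← QuotientGroup.eq, QuotientGroup.mk_zpow]
    exact hi
  obtain ⟨w, hw⟩ : ∃ w, w = u ^ i := ⟨_, rfl⟩
  obtain ⟨e, hedef⟩ : ∃ e, e = w⁻¹ * v := ⟨_, rfl⟩
  rw [← hw, ← hedef] at he
  have hv : v = w * e := by rw [hedef, mul_inv_cancel_left]
  obtain ⟨c₀, hc₀⟩ : ∃ c₀, c₀ = e * w * e⁻¹ * w⁻¹ := ⟨_, rfl⟩
  have hcc : c₀ ∈ Subgroup.center P :=
    hc₀ ▸ Cfsg.Agent.Lib.Helper70.commutator_central_of_normal_card_sq hP E hE e he w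
  have hcE : c₀ ∈ E := by
    have h1 : w * e⁻¹ * w⁻¹ ∈ E := hEn.conj_mem _ (E.inv_mem he) w
    have : c₀ = e * (w * e⁻¹ * w⁻¹) := by rw [hc₀]; group
    rw [this]
    exact E.mul_mem he h1
  have hcomm : ∀ g : P, Commute c₀ g := fun g => ((Subgroup.mem_center_iff.mp hcc) g).symm
  have hyx : e * w = c₀ * (w * e) := by rw [hc₀]; group
  refine ⟨w, hw ▸ Subgroup.zpow_mem_zpowers u i, e, he, hv, c₀ ^ (p.choose 2), E.pow_mem hcE _,
    fun g => (hcomm g).pow_left _, ?_, ?_, ?_⟩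
  · rw [hv, Cfsg.Agent.S3977.mul_pow_central hcomm hyx p, hEx e he, mul_one]
  · intro hodd
    have hdvd : p ∣ p.choose 2 := hp.dvd_choose_self (by norm_num) (by
      have := hp.two_le
      omega)
    obtain ⟨k, hk⟩ := hdvd
    rw [hk, pow_mul, hEx c₀ hcE, one_pow]
  · intro hcm
    have : c₀ = 1 := by rw [hc₀, hcm]; group
    rw [this, one_pow]

theorem obs_upper {P : Type*} [Group P] [Finite P] {p : ℕ} [Fact p.Prime] (hP : IsPGroup p P)
    (E : Subgroup P) [hEn : E.Normal] (hE : Nat.card E = p ^ 2) (hEx : ∀ x ∈ E, x ^ p = 1)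
    (u v : P) (h : (v : P ⧸ E) ∈ Subgroup.zpowers (u : P ⧸ E)) (k : ℕ) (hk : 2 ≤ k)
    (hu : u ^ p ^ k = 1) : v ^ p ^ k = 1 := by
  obtain ⟨w, hw, e, -, -, c, hcE, hcc, hvp, -, -⟩ := obs_dec hP E hE hEx u v h
  obtain ⟨k', rfl⟩ : ∃ k', k = k' + 2 := ⟨k - 2, by omega⟩
  have e1 : p ^ (k' + 2) = p * (p * p ^ k') := by ring
  have hw1 : w ^ (p * (p * p ^ k')) = 1 := obs_pow_of_mem_zpowers hw (e1 ▸ hu)
  rw [e1, pow_mul, hvp, (hcc _).mul_pow, ← pow_mul w, hw1, mul_one, pow_mul, hEx c hcE, one_pow]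

/-- OBS -/
theorem obs {P : Type*} [Group P] [Finite P] {p : ℕ} [Fact p.Prime] (hP : IsPGroup p P)
    (E : Subgroup P) [E.Normal] (hE : Nat.card E = p ^ 2) (hEx : ∀ x ∈ E, x ^ p = 1)
    (b : ℕ) (hb : 2 ≤ b) (x y : P) (hx : orderOf x = p ^ b) (hxb : ¬ bad p b E x)
    (hxy : Subgroup.zpowers (y : P ⧸ E) = Subgroup.zpowers (x : P ⧸ E)) :
    orderOf y = p ^ b ∧ ¬ bad p b E y := by
  have hp : p.Prime := Fact.out
  have hyx : (y : P ⧸ E) ∈ Subgroup.zpowers (x : P ⧸ E) := hxy ▸ Subgroup.mem_zpowers _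
  have hxy' : (x : P ⧸ E) ∈ Subgroup.zpowers (y : P ⧸ E) := hxy ▸ Subgroup.mem_zpowers _
  -- `E` is abelian
  have hEab : ∀ a ∈ E, ∀ c ∈ E, a * c = c * a := by
    intro a ha c hc
    have := (IsPGroup.isMulCommutative_of_card_eq_prime_sq hE).is_comm.comm ⟨a, ha⟩ ⟨c, hc⟩
    exact congrArg Subtype.val this
  have hEC : E ≤ Subgroup.centralizer (E : Set P) := fun a ha =>
    Subgroup.mem_centralizer_iff.mpr fun c hc => hEab c hc a ha
  have hxne : ∀ n, n < b → x ^ p ^ n ≠ 1 := by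
    intro n hn h1
    have := orderOf_dvd_of_pow_eq_one h1
    rw [hx] at this
    have := (Nat.pow_dvd_pow_iff_le_right hp.one_lt).mp this
    omega
  have hx1 : x ^ p ^ b = 1 := hx ▸ pow_orderOf_eq_one x
  obtain ⟨b', rfl⟩ : ∃ b', b = b' + 1 := ⟨b - 1, by omega⟩
  constructor
  · apply orderOf_eq_prime_pow
    · intro hy1
      rcases Nat.lt_or_ge 1 b' with hb' | hb'
      · exact hxne b' (by omega) (obs_upper hP E hE hEx y x hxy' b' hb' hy1)
      · have hb1 : b' = 1 := by omega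
        subst hb1
        rw [pow_one] at hy1
        obtain ⟨w, hw, e, he, hv, c, hcE, hcc, hvp, hodd, hcm⟩ := obs_dec hP E hE hEx y x hxy'
        rw [obs_pow_of_mem_zpowers hw hy1, mul_one] at hvp
        have hc1 : c = 1 := by
          by_cases hp2 : p = 2
          · apply hcm
            have hxC : x ∈ Subgroup.centralizer (E : Set P) := by
              by_contra hxC
              apply hxb
              refine ⟨hp2, rfl, hxC, ?_⟩
              have : x ^ 2 = c := by rw [← hvp, hp2]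
              rw [this]
              exact hcE
            have hwC : w ∈ Subgroup.centralizer (E : Set P) := by
              have : w = x * e⁻¹ := by rw [hv, mul_inv_cancel_right]
              rw [this]
              exact Subgroup.mul_mem _ hxC (hEC (E.inv_mem he))
            exact Subgroup.mem_centralizer_iff.mp hwC e he
          · exact hodd hp2
        rw [hc1] at hvp
        exact hxne 1 (by omega) (by rw [pow_one]; exact hvp)
    · exact obs_upper hP E hE hEx x y hyx (b' + 1) hb hx1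
  · rintro ⟨hp2, hb2, hyC, hy2⟩
    apply hxb
    refine ⟨hp2, hb2, fun hxC => hyC ?_, ?_⟩
    · obtain ⟨w, hw, e, he, hv, -⟩ := obs_dec hP E hE hEx x y hyx
      rw [hv]
      exact Subgroup.mul_mem _ ((Subgroup.zpowers_le.mpr hxC) hw) (hEC he)
    · obtain ⟨j, hj⟩ := Subgroup.mem_zpowers_iff.mp hxy'
      rw [← QuotientGroup.eq_one_iff, QuotientGroup.mk_pow, ← hj, ← zpow_natCast, ← zpow_mul,
        mul_comm, zpow_mul, zpow_natCast, ← QuotientGroup.mk_pow,
        (QuotientGroup.eq_one_iff _).mpr hy2, one_zpow]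

end Cfsg.Agent.Lib.Helper28.Kul
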