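import Mathlib
import Cfsg.Agent.Lib.Helper28.Kul.Defs
import Cfsg.Agent.Lib.Helper28.Kul.OBS
import Cfsg.Agent.Lib.Helper28.Kul.OBC

set_option autoImplicit false

namespace Cfsg.Agent.Lib.Helper28.Kul

/-- OB -/
theorem ob {P : Type*} [Group P] [Finite P] {p : ℕ} [Fact p.Prime] (hP : IsPGroup p P)
    (E : Subgroup P) (hEn : E.Normal) (hE : Nat.card E = p ^ 2) (hEx : ∀ x ∈ E, x ^ p = 1)
    (b : ℕ) (hb : 2 ≤ b) :
    p ^ b ∣ Nat.card {x : P // orderOf x = p ^ b ∧ ¬ bad p b E x} := by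
  have hp : p.Prime := Fact.out
  refine obc E {x : P | orderOf x = p ^ b ∧ ¬ bad p b E x} (p ^ b) ?_ ?_
  · rintro x ⟨hx, hxb⟩ y hxy
    exact obs hP E hE hEx b hb x y hx hxb hxy
  · rintro x ⟨hx, -⟩
    obtain ⟨r, hr⟩ := (IsPGroup.iff_orderOf.mp (hP.to_quotient E)) (x : P ⧸ E)
    have hrb : b ≤ r + 1 := by
      have h1 : (x : P ⧸ E) ^ p ^ r = 1 := hr ▸ pow_orderOf_eq_one _
      rw [← QuotientGroup.mk_pow, QuotientGroup.eq_one_iff] at h1
      have h2 := hEx _ h1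
      rw [← pow_mul, ← pow_succ] at h2
      have h3 := orderOf_dvd_of_pow_eq_one h2
      rw [hx] at h3
      exact (Nat.pow_dvd_pow_iff_le_right hp.one_lt).mp h3
    rw [hr, hE, Nat.totient_prime_pow hp (by omega : 0 < r), ← mul_assoc, ← pow_add]
    exact Dvd.dvd.mul_right (pow_dvd_pow p (by omega)) _

end Cfsg.Agent.Lib.Helper28.Kul
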