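import Mathlib
import Cfsg.Agent.Lib.Helper28.Kul.Defs
import Cfsg.Agent.Lib.Helper28.Kul.NE
import Cfsg.Agent.Lib.Helper28.Kul.OB
import Cfsg.Agent.Lib.Helper28.Kul.O22
import Cfsg.Agent.Lib.Helper28.Kul.CYCGEN

set_option autoImplicit false

namespace Cfsg.Agent.Lib.Helper28.Kul

/-- splitting a count along a predicate -/
theorem card_split {α : Type*} [Finite α] (A B : α → Prop) :
    Nat.card {x : α // A x} = Nat.card {x : α // A x ∧ ¬ B x} + Nat.card {x : α // A x ∧ B x} := by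
  classical
  have e : {x : α // A x} ≃ {x : α // A x ∧ B x} ⊕ {x : α // A x ∧ ¬ B x} :=
    (Equiv.sumCompl (fun x : {x : α // A x} => B x.1)).symm.trans
      (Equiv.sumCongr (Equiv.subtypeSubtypeEquivSubtypeInter A B)
        (Equiv.subtypeSubtypeEquivSubtypeInter A (fun x => ¬ B x)))
  rw [Nat.card_congr e, Nat.card_sum, add_comm]

/-- MILLER: in a non-cyclic `p`-group (not of maximal class if `p = 2`) the number of cyclic
subgroups of order `p ^ b`, `b ≥ 2`, is divisible by `p`. -/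
theorem miller {P : Type*} [Group P] [Finite P] {p m : ℕ} [Fact p.Prime] (hP : Nat.card P = p ^ m)
    (hnc : ¬ IsCyclic P) (h2 : p = 2 → Group.nilpotencyClass P ≠ m - 1) (b : ℕ) (hb : 2 ≤ b) :
    p ∣ cyc P (p ^ b) := by
  have hp : p.Prime := Fact.out
  have hPg : IsPGroup p P := IsPGroup.of_card hP
  obtain ⟨E, hEn, hE, hEx, hEC⟩ := ne hP hnc h2
  have h1 := ob hPg E hEn hE hEx b hb
  have h3 : p ^ b ∣ Nat.card {x : P // orderOf x = p ^ b ∧ bad p b E x} := by
    by_cases hc : p = 2 ∧ b = 2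
    · obtain ⟨rfl, rfl⟩ := hc
      exact o22 hPg E hEn hE hEx (hEC rfl)
    · have : IsEmpty {x : P // orderOf x = p ^ b ∧ bad p b E x} :=
        ⟨fun x => hc ⟨x.2.2.1, x.2.2.2.1⟩⟩
      rw [Nat.card_of_isEmpty]
      exact dvd_zero _
  have h4 : p ^ b ∣ Nat.card {x : P // orderOf x = p ^ b} := by
    rw [card_split (fun x : P => orderOf x = p ^ b) (fun x => bad p b E x)]
    exact dvd_add h1 h3
  rw [cycgen, Nat.totient_prime_pow hp (by omega)] at h4
  obtain ⟨b', rfl⟩ : ∃ b', b = b' + 1 := ⟨b - 1, by omega⟩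
  rw [Nat.add_sub_cancel, pow_succ, mul_comm (cyc P _), mul_assoc] at h4
  have h5 : p ∣ (p - 1) * cyc P (p ^ b' * p) :=
    Nat.dvd_of_mul_dvd_mul_left (pow_pos hp.pos b') h4
  rw [pow_succ]
  rcases (Nat.Prime.dvd_mul hp).mp h5 with h | h
  · exact absurd (Nat.le_of_dvd (by have := hp.two_le; omega) h) (by have := hp.two_le; omega)
  · exact h

end Cfsg.Agent.Lib.Helper28.Kul
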