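import Mathlib
import Cfsg.Agent.Lib.Helper28.Kul.Defs

set_option autoImplicit false

namespace Cfsg.Agent.Lib.Helper28.Kul

theorem sylred_mem_map_conj {G : Type*} [Group G] (Z : Subgroup G) (g x : G) :
    x ∈ Z.map (MulAut.conj g).toMonoidHom ↔ g⁻¹ * x * g ∈ Z := by
  rw [Subgroup.mem_map_equiv, MulAut.conj_symm_apply]

/-- the cyclic subgroups of order `p ^ n` not contained in the Sylow subgroup `P` -/
def SylredY {G : Type*} [Group G] {p : ℕ} (P : Sylow p G) (n : ℕ) : Type _ :=
  {Z : Subgroup G // (Nat.card Z = p ^ n ∧ IsCyclic Z) ∧ ¬ Z ≤ (P : Subgroup G)}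

/-- conjugation action of `P` -/
noncomputable instance sylredAction {G : Type*} [Group G] {p : ℕ} (P : Sylow p G) (n : ℕ) :
    MulAction ↥(P : Subgroup G) (SylredY P n) where
  smul g Z := ⟨Z.1.map (MulAut.conj (g : G)).toMonoidHom, ⟨by
      rw [Subgroup.card_map_of_injective (MulAut.conj (g : G)).injective]
      exact Z.2.1.1, by
      have := Z.2.1.2
      exact (Z.1.equivMapOfInjective (MulAut.conj (g : G)).toMonoidHom
        (MulAut.conj (g : G)).injective).isCyclic.1 this⟩, by
      intro hle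
      apply Z.2.2
      intro z hz
      have h1 : (g : G) * z * (g : G)⁻¹ ∈ (P : Subgroup G) :=
        hle ((sylred_mem_map_conj _ _ _).2 (by simpa [mul_assoc] using hz))
      have h2 := mul_mem (mul_mem (inv_mem g.2) h1) g.2
      simpa [mul_assoc] using h2⟩
  one_smul Z := by
    apply Subtype.ext
    ext x
    show x ∈ Z.1.map (MulAut.conj ((1 : ↥(P : Subgroup G)) : G)).toMonoidHom ↔ x ∈ Z.1
    rw [sylred_mem_map_conj]
    simp
  mul_smul g h Z := by
    apply Subtype.ext
    ext x
    show x ∈ Z.1.map (MulAut.conj ((g * h : ↥(P : Subgroup G)) : G)).toMonoidHom ↔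
      x ∈ (Z.1.map (MulAut.conj (h : G)).toMonoidHom).map (MulAut.conj (g : G)).toMonoidHom
    rw [sylred_mem_map_conj, sylred_mem_map_conj, sylred_mem_map_conj]
    simp [mul_assoc]

theorem sylred_dvd {G : Type*} [Group G] [Finite G] {p : ℕ} [Fact p.Prime] (P : Sylow p G)
    (n : ℕ) : p ∣ Nat.card (SylredY P n) := by
  have hfin : Finite (SylredY P n) := by unfold SylredY; infer_instance
  have h := P.2.card_modEq_card_fixedPoints (SylredY P n)
  have hempty : IsEmpty (MulAction.fixedPoints ↥(P : Subgroup G) (SylredY P n)) := by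
    constructor
    rintro ⟨Z, hZ⟩
    apply Z.2.2
    have hnorm : (P : Subgroup G) ≤ Subgroup.normalizer (Z.1 : Set G) := by
      intro g hg
      rw [Subgroup.mem_normalizer_iff]
      intro x
      have h1 : Z.1.map (MulAut.conj g).toMonoidHom = Z.1 :=
        congrArg Subtype.val (hZ ⟨g, hg⟩)
      constructor
      · intro hx
        rw [← h1, sylred_mem_map_conj]
        simpa [mul_assoc] using hx
      · intro hx
        rw [← h1, sylred_mem_map_conj] at hx
        simpa [mul_assoc] using hx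
    have hZp : IsPGroup p Z.1 := IsPGroup.of_card Z.2.1.1
    have hsup : IsPGroup p ((P : Subgroup G) ⊔ Z.1 : Subgroup G) :=
      IsPGroup.to_sup_of_normal_right' P.2 hZp hnorm
    have hmax := P.is_maximal' hsup le_sup_left
    exact le_sup_right.trans hmax.le
  have h0 : Nat.card (MulAction.fixedPoints ↥(P : Subgroup G) (SylredY P n)) = 0 :=
    Nat.card_of_isEmpty
  rw [h0] at h
  exact (Nat.modEq_zero_iff_dvd).1 h

theorem sylred {G : Type*} [Group G] [Finite G] {p : ℕ} [Fact p.Prime] (P : Sylow p G) (n : ℕ) :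
    cyc G (p ^ n) ≡ cyc ↥(P : Subgroup G) (p ^ n) [MOD p] := by
  classical
  have h1 : cyc G (p ^ n) =
      Nat.card {Z : {Z : Subgroup G // Nat.card Z = p ^ n ∧ IsCyclic Z} // Z.1 ≤ (P : Subgroup G)}
      + Nat.card {Z : {Z : Subgroup G // Nat.card Z = p ^ n ∧ IsCyclic Z} //
          ¬ Z.1 ≤ (P : Subgroup G)} := by
    rw [← Nat.card_sum]
    exact Nat.card_congr (Equiv.sumCompl _).symm
  have h2 : Nat.card {Z : {Z : Subgroup G // Nat.card Z = p ^ n ∧ IsCyclic Z} //
      ¬ Z.1 ≤ (P : Subgroup G)} = Nat.card (SylredY P n) :=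
    Nat.card_congr (Equiv.subtypeSubtypeEquivSubtypeInter
      (fun Z : Subgroup G => Nat.card Z = p ^ n ∧ IsCyclic Z)
      (fun Z : Subgroup G => ¬ Z ≤ (P : Subgroup G)))
  have h3 : Nat.card {Z : {Z : Subgroup G // Nat.card Z = p ^ n ∧ IsCyclic Z} //
      Z.1 ≤ (P : Subgroup G)} = cyc ↥(P : Subgroup G) (p ^ n) := by
    refine Nat.card_congr ⟨fun Z => ⟨Z.1.1.subgroupOf P, ?_, ?_⟩,
      fun H => ⟨⟨H.1.map (P : Subgroup G).subtype, ?_, ?_⟩, Subgroup.map_subtype_le _⟩, ?_, ?_⟩
    · rw [Nat.card_congr (Subgroup.subgroupOfEquivOfLe Z.2).toEquiv]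
      exact Z.1.2.1
    · exact (Subgroup.subgroupOfEquivOfLe Z.2).isCyclic.2 Z.1.2.2
    · rw [Subgroup.card_map_of_injective (Subgroup.subtype_injective _)]
      exact H.2.1
    · exact (H.1.equivMapOfInjective _ (Subgroup.subtype_injective _)).isCyclic.1 H.2.2
    · intro Z
      apply Subtype.ext
      apply Subtype.ext
      show (Z.1.1.subgroupOf P).map (P : Subgroup G).subtype = Z.1.1
      rw [Subgroup.subgroupOf_map_subtype, inf_eq_left.2 Z.2]
    · intro H
      apply Subtype.ext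
      exact Subgroup.comap_map_eq_self_of_injective (Subgroup.subtype_injective _) H.1
  rw [h1, h2, h3]
  obtain ⟨k, hk⟩ := sylred_dvd P n
  rw [hk]
  exact (Nat.modEq_iff_dvd' (Nat.le_add_right _ _)).2 (by simp) |>.symm

end Cfsg.Agent.Lib.Helper28.Kul
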